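import Mathlib
import Cfsg.Prelude.Def_Solvable
import Cfsg.Prelude.Def_Transfer
import Cfsg.Agent.Lib.Helper7.Coprime
import Cfsg.Agent.Lib.Helper7.Cores
import Cfsg.Agent.Lib.Helper14.Basic
import Cfsg.Agent.Lib.Helper16.Solvable2
import Cfsg.Agent.Lib.Helper16.AutTwoGroup
import Cfsg.Agent.Lib.Helper1.Hall
import Cfsg.Agent.Lib.Helper1.HallConj

/-!
# S4409 design (helper17): shared definitions

`Good Y` : the subgroup `Y` contains no noncyclic abelian subgroup of order 8.
`Ctx X H` : `X` is a normal Sylow 2-subgroup, `H` a Hall 2'-subgroup, and the minimality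
hypothesis of S4409 in the form used in part 2 of the proof.  See `plans/S4409_plan.md`.
-/

set_option autoImplicit false

namespace Cfsg.Agent.Helper17.MB

variable {S : Type*} [Group S]

/-- `Y` contains no noncyclic abelian subgroup of order `8`. -/
def Good (Y : Subgroup S) : Prop :=
  ∀ A : Subgroup S, A ≤ Y → IsMulCommutative ↥A → Nat.card ↥A = 8 → IsCyclic ↥A

/-- type-level version of `Good`. -/
def GoodT (Y : Type*) [Group Y] : Prop :=
  ∀ A : Subgroup Y, IsMulCommutative ↥A → Nat.card ↥A = 8 → IsCyclic ↥A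

/-- noncyclic of order 4. -/
def IsE4 (Y : Subgroup S) : Prop := Nat.card ↥Y = 4 ∧ ¬ IsCyclic ↥Y

/-- quaternion of order 8. -/
def IsQ8 (Y : Subgroup S) : Prop := Nonempty (↥Y ≃* QuaternionGroup 2)

/-- internal Frattini subgroup. -/
def PhiS (X : Subgroup S) : Subgroup S := (frattini ↥X).map X.subtype

/-- internal centre. -/
def ZS (X : Subgroup S) : Subgroup S := X ⊓ Subgroup.centralizer (X : Set S)

/-- The situation of part 2: `X` normal Sylow 2, `H` a Hall 2'-subgroup. -/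
structure Ctx (X H : Subgroup S) : Prop where
  normal : X.Normal
  two : IsPGroup 2 ↥X
  odd : (Nat.card ↥H).Coprime 2
  sup : X ⊔ H = ⊤
  cent : Subgroup.centralizer (X : Set S) ≤ X
  bad : ¬ Good X
  min : ∀ Y : Subgroup S, Y ≤ X → H ≤ Subgroup.normalizer (Y : Set S) → Y ≠ X → Good (Y ⊔ H)

theorem good_mono {Y Z : Subgroup S} (h : Y ≤ Z) (hZ : Good Z) : Good Y :=
  fun A hA => hZ A (hA.trans h)

theorem not_good_iff (Y : Subgroup S) : ¬ Good Y ↔
    ∃ A : Subgroup S, A ≤ Y ∧ IsMulCommutative ↥A ∧ ¬ IsCyclic ↥A ∧ Nat.card ↥A = 8 := by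
  unfold Good
  constructor
  · intro h
    by_contra hne
    apply h
    intro A h1 h2 h4
    by_contra h3
    exact hne ⟨A, h1, h2, h3, h4⟩
  · rintro ⟨A, h1, h2, h3, h4⟩ h
    exact h3 (h A h1 h2 h4)

theorem good_top_iff : Good (⊤ : Subgroup S) ↔
    ¬ ∃ A : Subgroup S, IsMulCommutative ↥A ∧ ¬ IsCyclic ↥A ∧ Nat.card ↥A = 8 := by
  rw [← not_iff_not, not_not, not_good_iff]
  constructor
  · rintro ⟨A, -, h⟩; exact ⟨A, h⟩
  · rintro ⟨A, h⟩; exact ⟨A, le_top, h⟩

end Cfsg.Agent.Helper17.MB
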