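import Mathlib
import Cfsg.Agent.Lib.MB.MBDefs

/-! S4409 piece MB-COMMNORM (helper17 design; see plans/S4409_plan.md).  STUB: overwrite this file,
keeping the statement(s), namespace and imports (you may ADD imports of non-MB library files). -/

set_option autoImplicit false

namespace Cfsg.Agent.Helper17.MB

variable {S : Type*} [Group S]

open scoped commutatorElement in
/-- conjugation by an element of `P` maps `[P,K]` into itself. -/
theorem mb_commnorm_map_le (P K : Subgroup S) (x : S) (hx : x ∈ P) :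
    (⁅P, K⁆ : Subgroup S).map (MulAut.conj x).toMonoidHom ≤ ⁅P, K⁆ := by
  rw [Subgroup.map_le_iff_le_comap, Subgroup.commutator_le]
  intro p hp k hk
  rw [Subgroup.mem_comap]
  have h1 : (MulAut.conj x).toMonoidHom ⁅p, k⁆ = ⁅x * p, k⁆ * ⁅x, k⁆⁻¹ := by
    simp only [MulEquiv.toMonoidHom_eq_coe, MonoidHom.coe_coe, MulAut.conj_apply,
      commutatorElement_def]
    group
  rw [h1]
  exact Subgroup.mul_mem _ (Subgroup.commutator_mem_commutator (P.mul_mem hx hp) hk)
    (Subgroup.inv_mem _ (Subgroup.commutator_mem_commutator hx hk))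

/-- basic facts on `[P,K]` when `K` normalizes `P`. -/
theorem commutator_facts (P K : Subgroup S) (hK : K ≤ Subgroup.normalizer (P : Set S)) :
    ⁅P, K⁆ ≤ P ∧ P ≤ Subgroup.normalizer ((⁅P, K⁆ : Subgroup S) : Set S) ∧
      K ≤ Subgroup.normalizer ((⁅P, K⁆ : Subgroup S) : Set S) := by
  refine ⟨Cfsg.Agent.Helper7.commutator_le_of_le_normalizer hK, ?_, ?_⟩
  · intro x hx
    rw [Subgroup.mem_normalizer_iff_map_conj_eq]
    apply le_antisymm (mb_commnorm_map_le P K x hx)
    have h2 := mb_commnorm_map_le P K x⁻¹ (P.inv_mem hx)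
    have h3 := Subgroup.map_mono (f := (MulAut.conj x).toMonoidHom) h2
    rw [Subgroup.map_map] at h3
    have h4 : (MulAut.conj x).toMonoidHom.comp (MulAut.conj x⁻¹).toMonoidHom = MonoidHom.id S := by
      ext y
      simp only [MulEquiv.toMonoidHom_eq_coe, MonoidHom.coe_comp, MonoidHom.coe_coe, Function.comp_apply, MulAut.conj_apply, MonoidHom.id_apply]
      group
    rw [h4, Subgroup.map_id] at h3
    exact h3
  · intro k hk
    apply Cfsg.Agent.Helper7.normalizer_inf_normalizer_le_normalizer_commutator P K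
    exact ⟨hK hk, Subgroup.le_normalizer hk⟩

end Cfsg.Agent.Helper17.MB
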