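import Mathlib
import Cfsg.Agent.Lib.MB.MBDefs
import Cfsg.Agent.Lib.MB.MBCOMMNORM
import Cfsg.Agent.Lib.SG.SGCOMMNORMAL

/-! S4409 piece MB-CTXBASIC (helper17 design; see plans/S4409_plan.md).  Proved by helper27. -/

set_option autoImplicit false
set_option linter.style.haveILetI false

namespace Cfsg.Agent.Helper17.MB

variable {S : Type*} [Group S]

/-- basic consequences of the context. -/
theorem ctx_facts [Finite S] {X H : Subgroup S} (h : Ctx X H) :
    H ≤ Subgroup.normalizer (X : Set S) ∧ (Nat.card ↥X).Coprime (Nat.card ↥H) ∧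
      (⁅X, H⁆).Normal ∧ ⁅X, H⁆ ≤ X ∧ X ≠ ⊥ ∧
      (∀ Y : Subgroup S, Y ≤ X → H ≤ Subgroup.normalizer (Y : Set S) → ¬ Good Y → Y = X) := by
  haveI hXn : X.Normal := h.normal
  haveI : Fact (Nat.Prime 2) := ⟨Nat.prime_two⟩
  refine ⟨?_, ?_, ?_, ?_, ?_, ?_⟩
  · rw [Subgroup.normalizer_eq_top]
    exact le_top
  · obtain ⟨k, hk⟩ := IsPGroup.iff_card.mp h.two
    rw [hk]
    exact Nat.Coprime.pow_left k h.odd.symm
  · exact Cfsg.Agent.Helper17.SG.commutator_normal_of_sup_eq_top X H h.sup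
  · exact Subgroup.commutator_le_left X H
  · intro hbot
    obtain ⟨A, hA, -, -, hcard⟩ := (not_good_iff X).mp h.bad
    rw [hbot, le_bot_iff] at hA
    rw [hA, Subgroup.card_bot] at hcard
    norm_num at hcard
  · intro Y hYX hHY hbad
    by_contra hne
    exact hbad (good_mono le_sup_left (h.min Y hYX hHY hne))

end Cfsg.Agent.Helper17.MB
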