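import Mathlib
import Cfsg.Agent.Lib.MB.MBDefs
import Cfsg.Agent.Lib.MB.MBCTXBASIC

/-! S4409 piece MB-A0 (helper17 design; see plans/S4409_plan.md).  Proved by helper21. -/

set_option autoImplicit false

namespace Cfsg.Agent.Helper17.MB

variable {S : Type*} [Group S]

theorem case_A0 [Finite S] {X H : Subgroup S} (h : Ctx X H) (h0 : ⁅X, H⁆ = ⊥) :
    IsMulCommutative ↥X := by
  obtain ⟨-, hcop, -, -, -, hmin⟩ := ctx_facts h
  -- `H` centralizes `X`
  have hHX : H ≤ Subgroup.centralizer (X : Set S) := by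
    rw [Subgroup.commutator_comm] at h0
    exact (Subgroup.commutator_eq_bot_iff_le_centralizer).mp h0
  have hHleX : H ≤ X := hHX.trans h.cent
  -- hence `H = ⊥`
  have hdvd : Nat.card ↥H ∣ Nat.card ↥X := Subgroup.card_dvd_of_le hHleX
  have hH1 : Nat.card ↥H = 1 := by
    have := Nat.Coprime.eq_one_of_dvd hcop.symm hdvd
    exact this
  have hHbot : H = ⊥ := Subgroup.card_eq_one.mp hH1
  -- a bad abelian subgroup
  obtain ⟨A, hAX, hAc, hAnc, hA8⟩ := (not_good_iff X).mp h.bad
  have hAbad : ¬ Good A := by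
    rw [not_good_iff]
    exact ⟨A, le_rfl, hAc, hAnc, hA8⟩
  have hHA : H ≤ Subgroup.normalizer (A : Set S) := by
    rw [hHbot]; exact bot_le
  have hAX' : A = X := hmin A hAX hHA hAbad
  subst hAX'
  exact hAc

end Cfsg.Agent.Helper17.MB
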