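import Mathlib
import Cfsg.Agent.Lib.MB.MBDefs
import Cfsg.Agent.Lib.MB.MBCOMMNORM
import Cfsg.Agent.Lib.Helper22.QAutCARDSUP

/-! S4409 piece MB-FACTOR (helper17 design; see plans/S4409_plan.md).  STUB: overwrite this file,
keeping the statement(s), namespace and imports (you may ADD imports of non-MB library files). -/

set_option autoImplicit false

namespace Cfsg.Agent.Helper17.MB

variable {S : Type*} [Group S]

open scoped commutatorElement Pointwise in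
/-- coprime action: `P = [P,K] C_P(K)`. -/
theorem exists_mul_of_coprime [Finite S] [Group.IsSolvable S] (P K : Subgroup S)
    (hK : K ≤ Subgroup.normalizer (P : Set S))
    (hcop : (Nat.card ↥P).Coprime (Nat.card ↥K)) :
    ∀ x ∈ P, ∃ y ∈ ⁅P, K⁆, ∃ c ∈ P ⊓ Subgroup.centralizer (K : Set S), x = y * c := by
  intro x hx
  obtain ⟨hLP, hPL, hKL⟩ := commutator_facts P K hK
  set L : Subgroup S := ⁅P, K⁆ with hL
  set M : Subgroup S := L ⊔ K with hM
  have hLM : L ≤ M := le_sup_left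
  have hKM : K ≤ M := le_sup_right
  -- the conjugate of K by x
  set Kx : Subgroup S := K.map (MulAut.conj x).toMonoidHom with hKx
  have hKxM : Kx ≤ M := by
    rintro _ ⟨k, hk, rfl⟩
    have h1 : (MulAut.conj x).toMonoidHom k = ⁅x, k⁆ * k := by
      simp only [MulEquiv.toMonoidHom_eq_coe, MonoidHom.coe_coe, MulAut.conj_apply,
        commutatorElement_def]
      group
    rw [h1]
    exact M.mul_mem (hLM (Subgroup.commutator_mem_commutator hx hk)) (hKM hk)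
  have hPK : P ⊓ K = ⊥ := (Subgroup.disjoint_of_coprime_natCard hcop).eq_bot
  -- cardinalities
  have hcardKx : Nat.card ↥Kx = Nat.card ↥K := by
    rw [hKx]
    exact Subgroup.card_map_of_injective (MulAut.conj x).injective
  have hdvd : Nat.card ↥M ∣ Nat.card ↥K * Nat.card ↥L := by
    have := Cfsg.Agent.Helper22.QAut.card_sup_dvd_of_le_normalizer K L hKL
    rwa [sup_comm] at this
  have hKdvd : Nat.card ↥K ∣ Nat.card ↥M := Subgroup.card_dvd_of_le hKM
  obtain ⟨n, hn⟩ := hKdvd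
  have hKpos : 0 < Nat.card ↥K := Nat.card_pos
  have hnL : n ∣ Nat.card ↥L := by
    rw [hn] at hdvd
    exact (Nat.mul_dvd_mul_iff_left hKpos).mp hdvd
  have hLdvdP : Nat.card ↥L ∣ Nat.card ↥P := Subgroup.card_dvd_of_le hLP
  have hcopn : (Nat.card ↥K).Coprime n :=
    (Nat.Coprime.coprime_dvd_left (hnL.trans hLdvdP) hcop).symm
  -- Hall conjugacy inside M
  have h1 : Nat.card ↥(K.subgroupOf M) = Nat.card ↥K :=
    Nat.card_congr (Subgroup.subgroupOfEquivOfLe hKM).toEquiv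
  have h2 : Nat.card ↥(Kx.subgroupOf M) = Nat.card ↥K := by
    rw [Nat.card_congr (Subgroup.subgroupOfEquivOfLe hKxM).toEquiv, hcardKx]
  obtain ⟨g, hg⟩ := Cfsg.Agent.Helper1.hall_conj (G := ↥M) (Nat.card ↥K) n hn hcopn
    (K.subgroupOf M) (Kx.subgroupOf M) h1 h2
  -- decompose g = y * k0
  have hgM : (g : S) ∈ ((L ⊔ K : Subgroup S) : Set S) := g.2
  rw [Subgroup.coe_mul_of_right_le_normalizer_left L K hKL, Set.mem_mul] at hgM
  obtain ⟨y, hy0, k0, hk00, hyk⟩ := hgM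
  have hy : y ∈ L := hy0
  have hk0 : k0 ∈ K := hk00
  refine ⟨y, hy, y⁻¹ * x, ⟨P.mul_mem (P.inv_mem (hLP hy)) hx, ?_⟩, by group⟩
  refine Subgroup.mem_centralizer_iff.mpr ?_
  intro k' hk'
  -- x k' x⁻¹ = g k g⁻¹ for some k ∈ K
  have hmem : (⟨x * k' * x⁻¹, hKxM ⟨k', hk', by simp [MulAut.conj_apply]⟩⟩ : ↥M) ∈
      Kx.subgroupOf M := by
    rw [Subgroup.mem_subgroupOf]
    exact ⟨k', hk', by simp [MulAut.conj_apply]⟩
  rw [← hg, Subgroup.mem_smul_pointwise_iff_exists] at hmem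
  obtain ⟨k1, hk1, hk1eq⟩ := hmem
  rw [Subgroup.mem_subgroupOf] at hk1
  have hk1eq' : (g : S) * (k1 : S) * (g : S)⁻¹ = x * k' * x⁻¹ := by
    have := congrArg Subtype.val hk1eq
    simpa [MulAut.smul_def, MulAut.conj_apply] using this
  -- so c k' c⁻¹ ∈ K
  have hc : (y⁻¹ * x) * k' * (y⁻¹ * x)⁻¹ = k0 * (k1 : S) * k0⁻¹ := by
    have : (y⁻¹ * x) * k' * (y⁻¹ * x)⁻¹ = y⁻¹ * (x * k' * x⁻¹) * y := by group
    rw [this, ← hk1eq', ← hyk]
    group
  have hcK : (y⁻¹ * x) * k' * (y⁻¹ * x)⁻¹ ∈ K := by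
    rw [hc]
    exact K.mul_mem (K.mul_mem hk0 hk1) (K.inv_mem hk0)
  -- the commutator lies in P ⊓ K = ⊥
  have hcomm : ⁅y⁻¹ * x, k'⁆ ∈ P ⊓ K := by
    refine ⟨hLP (Subgroup.commutator_mem_commutator
      (P.mul_mem (P.inv_mem (hLP hy)) hx) hk'), ?_⟩
    rw [commutatorElement_def]
    exact K.mul_mem hcK (K.inv_mem hk')
  rw [hPK, Subgroup.mem_bot, commutatorElement_def] at hcomm
  -- c k' c⁻¹ k'⁻¹ = 1
  have : (y⁻¹ * x) * k' = k' * (y⁻¹ * x) := by
    have h3 : (y⁻¹ * x) * k' * (y⁻¹ * x)⁻¹ = k' := by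
      rw [← mul_inv_eq_one]; exact hcomm
    calc (y⁻¹ * x) * k' = ((y⁻¹ * x) * k' * (y⁻¹ * x)⁻¹) * (y⁻¹ * x) := by group
      _ = k' * (y⁻¹ * x) := by rw [h3]
  exact this.symm

end Cfsg.Agent.Helper17.MB
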