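import Mathlib
import Cfsg.Agent.Lib.MB.MBDefs
import Cfsg.Agent.Lib.MB.MBFACTOR
import Cfsg.Agent.Lib.MB.MBCOMMNORM

/-! S4409 piece MB-COMMCOMM (helper17 design; see plans/S4409_plan.md).  STUB: overwrite this file,
keeping the statement(s), namespace and imports (you may ADD imports of non-MB library files). -/

set_option autoImplicit false

namespace Cfsg.Agent.Helper17.MB

variable {S : Type*} [Group S]

open scoped commutatorElement in
/-- coprime action: `[P,K,K] = [P,K]`. -/
theorem commutator_commutator_eq [Finite S] [Group.IsSolvable S] (P K : Subgroup S)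
    (hK : K ≤ Subgroup.normalizer (P : Set S))
    (hcop : (Nat.card ↥P).Coprime (Nat.card ↥K)) : ⁅⁅P, K⁆, K⁆ = ⁅P, K⁆ := by
  obtain ⟨hLP, -, -⟩ := commutator_facts P K hK
  apply le_antisymm (Subgroup.commutator_mono hLP le_rfl)
  rw [Subgroup.commutator_le]
  intro p hp k hk
  obtain ⟨y, hy, c, hc, rfl⟩ := exists_mul_of_coprime P K hK hcop p hp
  have hck : k * c = c * k := (Subgroup.mem_centralizer_iff.mp hc.2) k hk
  have h1 : ⁅y * c, k⁆ = ⁅y, k⁆ := by
    simp only [commutatorElement_def]
    have : y * c * k * (y * c)⁻¹ = y * k * y⁻¹ := by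
      calc y * c * k * (y * c)⁻¹ = y * (c * k) * c⁻¹ * y⁻¹ := by group
        _ = y * (k * c) * c⁻¹ * y⁻¹ := by rw [hck]
        _ = y * k * y⁻¹ := by group
    rw [this]
  rw [h1]
  exact Subgroup.commutator_mem_commutator hy hk

end Cfsg.Agent.Helper17.MB
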