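import Mathlib
import Cfsg.Agent.Lib.MB.MBDefs

/-! S4409 piece MB-E4IRR (helper17 design; see plans/S4409_plan.md).  Proved by helper27. -/

set_option autoImplicit false

namespace Cfsg.Agent.Helper17.MB

variable {S : Type*} [Group S]

/-- `K`-invariant subgroups of a group `B = [B,K]` of order 4 are trivial. -/
theorem eq_bot_or_eq_of_card_four (B Z K : Subgroup S) (hB : Nat.card ↥B = 4) (hZB : Z ≤ B)
    (hKB : K ≤ Subgroup.normalizer (B : Set S)) (hKZ : K ≤ Subgroup.normalizer (Z : Set S))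
    (hBK : ⁅B, K⁆ = B) : Z = ⊥ ∨ Z = B := by
  have hfin : Finite ↥B := Nat.finite_of_card_ne_zero (by rw [hB]; norm_num)
  have hcard : Nat.card ↥Z * (Z.subgroupOf B).index = 4 := by
    rw [← hB, ← Subgroup.card_mul_index (Z.subgroupOf B)]
    congr 1
    exact (Nat.card_congr (Subgroup.subgroupOfEquivOfLe hZB).toEquiv).symm
  have hidx : (Z.subgroupOf B).index ∣ 2 ^ 2 := ⟨Nat.card ↥Z, by rw [mul_comm]; exact hcard.symm⟩
  obtain ⟨m, hm, hmeq⟩ := (Nat.dvd_prime_pow Nat.prime_two).1 hidx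
  interval_cases m
  · -- index one
    right
    apply le_antisymm hZB
    have h1 : Z.subgroupOf B = ⊤ := Subgroup.index_eq_one.mp hmeq
    exact Subgroup.subgroupOf_eq_top.mp h1
  · -- index two
    right
    apply le_antisymm hZB
    rw [← hBK, Subgroup.commutator_le]
    intro b hb k hk
    have hkB := hKB hk
    have hkZ := hKZ hk
    rw [Subgroup.mem_normalizer_iff] at hkB hkZ
    have hc : k * b⁻¹ * k⁻¹ ∈ B := (hkB b⁻¹).1 (B.inv_mem hb)
    have hiff : b ∈ Z ↔ k * b⁻¹ * k⁻¹ ∈ Z := by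
      rw [← hkZ b⁻¹, inv_mem_iff]
    have h2 := Subgroup.mul_mem_iff_of_index_two (H := Z.subgroupOf B) hmeq
      (a := ⟨b, hb⟩) (b := ⟨k * b⁻¹ * k⁻¹, hc⟩)
    simp only [Subgroup.mem_subgroupOf, Subgroup.coe_mul] at h2
    have h3 : b * (k * b⁻¹ * k⁻¹) ∈ Z := h2.2 hiff
    have h4 : b * k * b⁻¹ * k⁻¹ = b * (k * b⁻¹ * k⁻¹) := by
      group
    rw [commutatorElement_def, h4]
    exact h3
  · -- index four
    left
    have h1 : Nat.card ↥Z = 1 := by
      rw [hmeq] at hcard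
      omega
    exact Subgroup.card_eq_one.mp h1

end Cfsg.Agent.Helper17.MB
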