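import Mathlib
import Cfsg.Agent.Lib.MB.MBDefs
import Cfsg.Agent.Lib.MB.MBE4IRR
import Cfsg.Agent.Lib.Helper19.PGroupBasic

/-! S4409 piece MB-E4CENT (helper17 design; see plans/S4409_plan.md).  Proved by helper27. -/

set_option autoImplicit false
set_option linter.style.haveILetI false

namespace Cfsg.Agent.Helper17.MB

variable {S : Type*} [Group S]

/-- conjugation by an element of the normalizer of `P` preserves the centralizer of `P`. -/
theorem mb_e4cent_conj_mem_centralizer (P : Subgroup S) {k h : S}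
    (hk : k ∈ Subgroup.normalizer (P : Set S)) (hh : h ∈ Subgroup.centralizer (P : Set S)) :
    k * h * k⁻¹ ∈ Subgroup.centralizer (P : Set S) := by
  rw [Subgroup.mem_centralizer_iff] at hh ⊢
  intro p hp
  have hk' : k⁻¹ ∈ Subgroup.normalizer (P : Set S) := Subgroup.inv_mem _ hk
  rw [Subgroup.mem_normalizer_iff] at hk'
  have hq : k⁻¹ * p * k⁻¹⁻¹ ∈ (P : Set S) := (hk' p).1 hp
  rw [inv_inv] at hq
  have h1 := hh _ hq
  calc p * (k * h * k⁻¹) = k * ((k⁻¹ * p * k) * h) * k⁻¹ := by group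
    _ = k * (h * (k⁻¹ * p * k)) * k⁻¹ := by rw [h1]
    _ = k * h * k⁻¹ * p := by group

/-- a normal subgroup `B = [B,K]` of order 4 of a 2-group `P` is central in `P`. -/
theorem le_centralizer_of_card_four [Finite S] (P B K : Subgroup S) (h2 : IsPGroup 2 ↥P)
    (hBP : B ≤ P) (hPB : P ≤ Subgroup.normalizer (B : Set S)) (hB : Nat.card ↥B = 4)
    (hKB : K ≤ Subgroup.normalizer (B : Set S)) (hKP : K ≤ Subgroup.normalizer (P : Set S))
    (hBK : ⁅B, K⁆ = B) : B ≤ Subgroup.centralizer (P : Set S) := by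
  haveI : Fact (Nat.Prime 2) := ⟨Nat.prime_two⟩
  set Z : Subgroup S := B ⊓ Subgroup.centralizer (P : Set S) with hZ
  -- `K` normalizes `Z`
  have hKZ : K ≤ Subgroup.normalizer (Z : Set S) := by
    intro k hk
    have hkB := hKB hk
    have hkP := hKP hk
    rw [Subgroup.mem_normalizer_iff]
    intro h
    rw [Subgroup.mem_normalizer_iff] at hkB
    constructor
    · intro hh
      rw [hZ, Subgroup.mem_inf] at hh ⊢
      exact ⟨(hkB h).1 hh.1, mb_e4cent_conj_mem_centralizer P hkP hh.2⟩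
    · intro hh
      rw [hZ, Subgroup.mem_inf] at hh ⊢
      refine ⟨(hkB h).2 hh.1, ?_⟩
      have h1 := mb_e4cent_conj_mem_centralizer P
        (Subgroup.inv_mem _ hkP) hh.2
      have h3 : k⁻¹ * (k * h * k⁻¹) * k⁻¹⁻¹ = h := by group
      rw [h3] at h1
      exact h1
  -- `Z ≠ ⊥`
  have hZne : Z ≠ ⊥ := by
    haveI hn : (B.subgroupOf P).Normal := by
      constructor
      intro n hn g
      rw [Subgroup.mem_subgroupOf] at hn ⊢
      have hg := hPB g.2
      rw [Subgroup.mem_normalizer_iff] at hg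
      have := (hg (n : S)).1 hn
      simpa using this
    have hne : B.subgroupOf P ≠ ⊥ := by
      intro h
      rw [Subgroup.subgroupOf_eq_bot, disjoint_iff, inf_of_le_left hBP] at h
      rw [h, Subgroup.card_bot] at hB
      norm_num at hB
    have h1 := Cfsg.Agent.Helper19.normal_inf_center_ne_bot h2 (B.subgroupOf P) hne
    obtain ⟨x, hx, hx1⟩ := (Subgroup.ne_bot_iff_exists_ne_one
      (H := B.subgroupOf P ⊓ Subgroup.center ↥P)).mp h1 |> fun ⟨x, hx1⟩ =>
        (⟨x.1, x.2, fun h => hx1 (Subtype.ext h)⟩ :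
          ∃ x : ↥P, x ∈ B.subgroupOf P ⊓ Subgroup.center ↥P ∧ x ≠ 1)
    rw [Subgroup.mem_inf, Subgroup.mem_subgroupOf, Subgroup.mem_center_iff] at hx
    intro hbot
    have hxZ : (x : S) ∈ Z := by
      rw [hZ, Subgroup.mem_inf, Subgroup.mem_centralizer_iff]
      refine ⟨hx.1, ?_⟩
      intro p hp
      have := hx.2 ⟨p, hp⟩
      exact congrArg Subtype.val this
    rw [hbot, Subgroup.mem_bot] at hxZ
    exact hx1 (Subtype.ext hxZ)
  rcases eq_bot_or_eq_of_card_four B Z K hB inf_le_left hKB hKZ hBK with h | h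
  · exact absurd h hZne
  · rw [← h]
    exact inf_le_right

end Cfsg.Agent.Helper17.MB
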