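import Mathlib
import Cfsg.Agent.Lib.MB.MBDefs
import Cfsg.Agent.Lib.MB.MBCTXBASIC
import Cfsg.Agent.Lib.MB.MBCOMMNORM
import Cfsg.Agent.Lib.MB.MBFACTOR
import Cfsg.Agent.Lib.MB.MBCOMMCOMM
import Cfsg.Agent.Lib.MB.MBE4CENT

/-! S4409 piece MB-A4 (helper17 design; see plans/S4409_plan.md).  Proved by helper21. -/

set_option autoImplicit false

namespace Cfsg.Agent.Helper17.MB

variable {S : Type*} [Group S]

theorem case_A4 [Finite S] [Group.IsSolvable S] {X H : Subgroup S} (h : Ctx X H)
    (h4 : IsE4 ⁅X, H⁆) : IsMulCommutative ↥X := by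
  obtain ⟨hHX, hcop, hnorm, hX1X, -, hmin⟩ := ctx_facts h
  set X₁ : Subgroup S := ⁅X, H⁆ with hX₁
  obtain ⟨-, hXnX₁, hHnX₁⟩ := commutator_facts X H hHX
  have hcc : ⁅X₁, H⁆ = X₁ := commutator_commutator_eq X H hHX hcop
  -- X₁ central in X
  have hcent : X₁ ≤ Subgroup.centralizer (X : Set S) :=
    le_centralizer_of_card_four X X₁ H h.two hX1X hXnX₁ h4.1 hHnX₁ hHX hcc
  have hfac := exists_mul_of_coprime X H hHX hcop
  set C : Subgroup S := X ⊓ Subgroup.centralizer (H : Set S) with hC
  -- X₁ is commutative (it is central in X and inside X)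
  have hX₁comm : ∀ a ∈ X₁, ∀ b ∈ X, a * b = b * a := by
    intro a ha b hb
    exact ((Subgroup.mem_centralizer_iff.mp (hcent ha)) b hb).symm
  by_cases hCX₁ : C ≤ X₁
  · -- X = X₁
    have hXle : X ≤ X₁ := by
      intro x hx
      obtain ⟨y, hy, c, hc, rfl⟩ := hfac x hx
      exact X₁.mul_mem hy (hCX₁ hc)
    refine ⟨⟨fun a b => ?_⟩⟩
    apply Subtype.ext
    show (a : S) * b = b * a
    exact hX₁comm a (hXle a.2) b b.2
  · -- choose c ∈ C \ X₁ of minimal order
    have hex : ∃ n : ℕ, ∃ c ∈ C, c ∉ X₁ ∧ orderOf c = n := by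
      obtain ⟨c, hc, hc'⟩ := SetLike.not_le_iff_exists.mp hCX₁
      exact ⟨orderOf c, c, hc, hc', rfl⟩
    classical
    obtain ⟨c, hcC, hcX₁, hcord⟩ := Nat.find_spec hex
    have hmin' : ∀ d ∈ C, d ∉ X₁ → orderOf c ≤ orderOf d := by
      intro d hd hd'
      rw [hcord]
      exact Nat.find_min' hex ⟨d, hd, hd', rfl⟩
    have hcX : c ∈ X := hcC.1
    have hcH : c ∈ Subgroup.centralizer (H : Set S) := hcC.2
    -- c is a 2-element, c ≠ 1
    have hc1 : c ≠ 1 := fun hc => hcX₁ (hc ▸ X₁.one_mem)
    -- c^2 ∈ X₁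
    have hc2 : c ^ 2 ∈ X₁ := by
      by_contra hne
      have h1 : c ^ 2 ∈ C := C.pow_mem hcC 2
      have hle := hmin' (c ^ 2) h1 hne
      -- orderOf (c^2) < orderOf c since order of c is even
      obtain ⟨k, hk⟩ := (h.two ⟨c, hcX⟩)
      have hk' : c ^ 2 ^ k = 1 := by
        have := congrArg Subtype.val hk
        simpa using this
      have hord : orderOf c ∣ 2 ^ k := orderOf_dvd_of_pow_eq_one hk'
      obtain ⟨j, hj, hj'⟩ := (Nat.dvd_prime_pow Nat.prime_two).mp hord
      have hjpos : j ≠ 0 := by
        rintro rfl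
        rw [pow_zero, orderOf_eq_one_iff] at hj'
        exact hc1 hj'
      have h2dvd : 2 ∣ orderOf c := by
        rw [hj']; exact dvd_pow_self 2 hjpos
      have hopos : 0 < orderOf c := orderOf_pos c
      have : orderOf (c ^ 2) = orderOf c / 2 := by
        rw [orderOf_pow' c (by norm_num : (2:ℕ) ≠ 0), Nat.gcd_eq_right h2dvd]
      rw [this] at hle
      have : orderOf c / 2 < orderOf c := Nat.div_lt_self hopos (by norm_num)
      omega
    -- Y := X₁ ⊔ zpowers c
    set Y : Subgroup S := X₁ ⊔ Subgroup.zpowers c with hY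
    have hYX : Y ≤ X := sup_le hX1X (by rw [Subgroup.zpowers_le]; exact hcX)
    -- Y is commutative
    have hYcomm : IsMulCommutative ↥Y := by
      have hgen : Y = Subgroup.closure ((X₁ : Set S) ∪ {c}) := by
        rw [hY, Subgroup.closure_union, Subgroup.closure_eq, Subgroup.zpowers_eq_closure]
      have hcommgen : ∀ a ∈ ((X₁ : Set S) ∪ {c}), ∀ b ∈ ((X₁ : Set S) ∪ {c}), a * b = b * a := by
        rintro a (ha | ha) b (hb | hb)
        · exact hX₁comm a ha b (hX1X hb)
        · rw [Set.mem_singleton_iff] at hb; subst hb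
          exact hX₁comm a ha b hcX
        · rw [Set.mem_singleton_iff] at ha; subst ha
          exact (hX₁comm b hb a hcX).symm
        · rw [Set.mem_singleton_iff] at ha hb; subst ha; subst hb; rfl
      rw [hgen]
      exact Subgroup.isMulCommutative_closure hcommgen
    -- H normalizes Y
    have : X₁.Normal := hnorm
    have hmemY : ∀ y, y ∈ Y ↔ ∃ a ∈ X₁, ∃ z ∈ Subgroup.zpowers c, a * z = y := by
      intro y
      rw [hY]
      exact Subgroup.mem_sup_of_normal_left
    have hHnY : H ≤ Subgroup.normalizer (Y : Set S) := by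
      intro g hg
      have hcomm : g * c = c * g := (Subgroup.mem_centralizer_iff.mp hcH) g hg
      have hcg : ∀ z ∈ Subgroup.zpowers c, g * z * g⁻¹ = z ∧ g⁻¹ * z * g = z := by
        rintro z ⟨n, rfl⟩
        have hc' : Commute g (c ^ n) := Commute.zpow_right hcomm n
        constructor
        · show g * c ^ n * g⁻¹ = c ^ n
          rw [hc'.eq, mul_inv_cancel_right]
        · show g⁻¹ * c ^ n * g = c ^ n
          rw [mul_assoc, ← hc'.eq, inv_mul_cancel_left]
      have key : ∀ y ∈ Y, g * y * g⁻¹ ∈ Y ∧ g⁻¹ * y * g ∈ Y := by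
        intro y hy
        obtain ⟨a, ha, z, hz, rfl⟩ := (hmemY y).mp hy
        constructor
        · have e : g * (a * z) * g⁻¹ = (g * a * g⁻¹) * (g * z * g⁻¹) := by group
          rw [e, (hcg z hz).1]
          exact (hmemY _).mpr ⟨g * a * g⁻¹, hnorm.conj_mem a ha g, z, hz, rfl⟩
        · have e : g⁻¹ * (a * z) * g = (g⁻¹ * a * g) * (g⁻¹ * z * g) := by group
          rw [e, (hcg z hz).2]
          have : g⁻¹ * a * g ∈ X₁ := by
            have := hnorm.conj_mem a ha g⁻¹
            simpa using this
          exact (hmemY _).mpr ⟨g⁻¹ * a * g, this, z, hz, rfl⟩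
      rw [Subgroup.mem_normalizer_iff]
      intro x
      constructor
      · intro hx; exact (key x hx).1
      · intro hx
        have := (key _ hx).2
        have e : g⁻¹ * (g * x * g⁻¹) * g = x := by group
        rwa [e] at this
    -- Y is bad: abelian noncyclic of order 8
    -- card Y = 8
    have hX₁4 : Nat.card ↥X₁ = 4 := h4.1
    have hX₁nc : ¬ IsCyclic ↥X₁ := h4.2
    -- Y / X₁ has order 2
    have hYbad : ¬ Good Y := by
      rw [not_good_iff]
      refine ⟨Y, le_rfl, hYcomm, ?_, ?_⟩
      · intro hcyc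
        -- subgroup of a cyclic group is cyclic
        have hle : X₁ ≤ Y := le_sup_left
        have : IsCyclic ↥(X₁.subgroupOf Y) := by
          have := hcyc
          exact Subgroup.isCyclic _
        have e : ↥(X₁.subgroupOf Y) ≃* ↥X₁ := Subgroup.subgroupOfEquivOfLe hle
        exact hX₁nc (isCyclic_of_surjective e.toMonoidHom e.surjective)
      · -- cardinality
        -- index of X₁ in Y is 2
        have hle : X₁ ≤ Y := le_sup_left
        have hrel : X₁.relIndex Y = 2 := by
          -- the quotient Y / X₁ is generated by the image of c, of order 2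
          have : (X₁.subgroupOf Y).Normal := inferInstance
          -- every element of Y is x₁ * c^n
          have hform : ∀ y ∈ Y, ∃ a ∈ X₁, ∃ n : ℤ, y = a * c ^ n := by
            intro y hy
            obtain ⟨a, ha, z, ⟨n, rfl⟩, rfl⟩ := (hmemY y).mp hy
            exact ⟨a, ha, n, rfl⟩
          -- cosets: Y = X₁ ∪ X₁ c
          have hcY : c ∈ Y := (le_sup_right : Subgroup.zpowers c ≤ Y) (Subgroup.mem_zpowers c)
          have hmem : ∀ y ∈ Y, y ∈ X₁ ∨ y * c⁻¹ ∈ X₁ := by
            intro y hy
            obtain ⟨a, ha, n, rfl⟩ := hform y hy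
            -- c^n ∈ X₁ or c^n c⁻¹ ∈ X₁ by parity
            rcases Int.even_or_odd n with ⟨m, hm⟩ | ⟨m, hm⟩
            · left
              have : c ^ n = (c ^ 2) ^ m := by
                rw [hm, ← two_mul, zpow_mul]; norm_cast
              rw [this]
              exact X₁.mul_mem ha (X₁.zpow_mem hc2 m)
            · right
              have : a * c ^ n * c⁻¹ = a * (c ^ 2) ^ m := by
                rw [hm, zpow_add, zpow_one, zpow_mul]
                have : (c ^ (2:ℤ)) = c ^ 2 := by norm_cast
                rw [this]; group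
              rw [this]
              exact X₁.mul_mem ha (X₁.zpow_mem hc2 m)
          -- relIndex = card of quotient
          rw [Subgroup.relIndex, Subgroup.index_eq_card]
          -- build explicit bijection with Bool / use card argument
          have hcq : (QuotientGroup.mk (⟨c, hcY⟩ : ↥Y) : ↥Y ⧸ X₁.subgroupOf Y) ≠ 1 := by
            intro hq
            rw [QuotientGroup.eq_one_iff] at hq
            exact hcX₁ (by simpa [Subgroup.mem_subgroupOf] using hq)
          have hall : ∀ q : ↥Y ⧸ X₁.subgroupOf Y, q = 1 ∨ q = QuotientGroup.mk (⟨c, hcY⟩ : ↥Y) := by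
            intro q
            induction q using QuotientGroup.induction_on with
            | H y =>
              rcases hmem y.1 y.2 with hy | hy
              · left
                rw [QuotientGroup.eq_one_iff]
                simpa [Subgroup.mem_subgroupOf] using hy
              · right
                rw [QuotientGroup.eq]
                rw [Subgroup.mem_subgroupOf]
                -- y⁻¹ * c ∈ X₁ ⇐ y * c⁻¹ ∈ X₁ (inverse)
                have e : ((y⁻¹ * ⟨c, hcY⟩ : ↥Y) : S) = (y.1)⁻¹ * (y.1 * c⁻¹)⁻¹ * ((y.1)⁻¹)⁻¹ := by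
                  simp [mul_inv_rev, mul_assoc]
                rw [e]
                exact hnorm.conj_mem _ (X₁.inv_mem hy) _
          have : Nat.card (↥Y ⧸ X₁.subgroupOf Y) = 2 := by
            rw [Nat.card_eq_two_iff]
            refine ⟨1, QuotientGroup.mk (⟨c, hcY⟩ : ↥Y), hcq.symm, ?_⟩
            ext q
            simp only [Set.mem_insert_iff, Set.mem_singleton_iff, Set.mem_univ, iff_true]
            exact hall q
          exact this
        have := Subgroup.relIndex_mul_relIndex (⊥ : Subgroup S) X₁ Y bot_le hle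
        rw [Subgroup.relIndex_bot_left, Subgroup.relIndex_bot_left, hrel, hX₁4] at this
        omega
    have hYeq : Y = X := hmin Y hYX hHnY hYbad
    rw [← hYeq]
    exact hYcomm

end Cfsg.Agent.Helper17.MB
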