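import Mathlib
import Cfsg.Agent.Lib.MB.MBDefs

/-! S4409 piece MB-Q8BASIC (helper17 design; see plans/S4409_plan.md): `Q8` has order 8 and is
noncommutative; a nonabelian subgroup of order 8 is good.  (helper9) -/

set_option autoImplicit false

namespace Cfsg.Agent.Helper17.MB

variable {S : Type*} [Group S]

/-- two noncommuting elements of `QuaternionGroup 2`. -/
theorem mb_q8basic_fin :
    (QuaternionGroup.a 1 : QuaternionGroup 2) * QuaternionGroup.xa 0 ≠
      QuaternionGroup.xa 0 * QuaternionGroup.a 1 := by decide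

theorem card_of_isQ8 (Y : Subgroup S) (h : IsQ8 Y) : Nat.card ↥Y = 8 := by
  obtain ⟨e⟩ := h
  rw [Nat.card_congr e.toEquiv, Nat.card_eq_fintype_card, QuaternionGroup.card]

theorem not_comm_of_isQ8 (Y : Subgroup S) (h : IsQ8 Y) : ¬ IsMulCommutative ↥Y := by
  obtain ⟨e⟩ := h
  intro hc
  rw [isMulCommutative_iff] at hc
  apply mb_q8basic_fin
  have h1 := hc (e.symm (QuaternionGroup.a 1)) (e.symm (QuaternionGroup.xa 0))
  have h2 := congrArg e h1
  rw [map_mul, map_mul, MulEquiv.apply_symm_apply, MulEquiv.apply_symm_apply] at h2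
  exact h2

/-- a nonabelian subgroup of order 8 is good. -/
theorem good_of_card_eight (Y : Subgroup S) (h8 : Nat.card ↥Y = 8)
    (hna : ¬ IsMulCommutative ↥Y) : Good Y := by
  intro A hAY hcomm hA8
  have hfin : Finite ↥Y := Nat.finite_of_card_ne_zero (by rw [h8]; norm_num)
  have heq : A = Y := Subgroup.eq_of_le_of_card_ge hAY (by rw [h8, hA8])
  subst heq
  exact absurd hcomm hna

end Cfsg.Agent.Helper17.MB
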