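import Mathlib
import Cfsg.Agent.Lib.MB.MBDefs

/-! S4409 piece MB-AUTTRIV (helper17 design; see plans/S4409_plan.md).  Proved by helper27. -/

set_option autoImplicit false

namespace Cfsg.Agent.Helper17.MB

variable {S : Type*} [Group S]

/-- an odd-order group normalizing `P` centralizes it when `Aut P` is a 2-group. -/
theorem le_centralizer_of_aut_isPGroup [Finite S] (P K : Subgroup S)
    (hK : K ≤ Subgroup.normalizer (P : Set S)) (hodd : (Nat.card ↥K).Coprime 2)
    (hA : IsPGroup 2 (MulAut ↥P)) : K ≤ Subgroup.centralizer (P : Set S) := by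
  intro k hk
  set k' : Subgroup.normalizer (P : Set S) := ⟨k, hK hk⟩ with hk'
  set α : MulAut ↥P := P.normalizerMonoidHom k' with hα
  -- the order of `α` divides the order of `k`, which is odd
  have h1 : orderOf α ∣ orderOf k' := orderOf_map_dvd _ k'
  have h2 : orderOf k' = orderOf k := by
    rw [← Subgroup.orderOf_coe k']
  have h3 : orderOf k ∣ Nat.card ↥K := by
    have : orderOf (⟨k, hk⟩ : ↥K) ∣ Nat.card ↥K := orderOf_dvd_natCard _
    rwa [← Subgroup.orderOf_coe] at this
  have h4 : (orderOf α).Coprime 2 :=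
    Nat.Coprime.coprime_dvd_left (h1.trans (h2 ▸ h3)) hodd
  -- the order of `α` is a power of two
  obtain ⟨j, hj⟩ := hA α
  have h5 : orderOf α ∣ 2 ^ j := orderOf_dvd_of_pow_eq_one hj
  have h6 : orderOf α = 1 :=
    Nat.Coprime.eq_one_of_dvd (Nat.Coprime.pow_right j h4) h5
  have h7 : α = 1 := orderOf_eq_one_iff.mp h6
  have h8 : k' ∈ P.normalizerMonoidHom.ker := by
    rw [MonoidHom.mem_ker]
    exact h7
  rw [Subgroup.normalizerMonoidHom_ker, Subgroup.mem_subgroupOf] at h8
  exact h8

end Cfsg.Agent.Helper17.MB
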