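import Mathlib
import Cfsg.Agent.Lib.MB.MBDefs

/-! S4409 piece MB-GOODT (helper17 design; see plans/S4409_plan.md), implemented by helper11.
Transport of `Good` along `subgroupOf` / `map subtype`. -/

set_option autoImplicit false

namespace Cfsg.Agent.Helper17.MB

variable {S : Type*} [Group S]

/-- commutativity is transported along a multiplicative equivalence -/
theorem mb_goodt_comm_of_equiv {A B : Type*} [Mul A] [Mul B] (e : A ≃* B)
    (h : IsMulCommutative A) : IsMulCommutative B := by
  rw [isMulCommutative_iff] at h ⊢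
  intro x y
  have h1 := h (e.symm x) (e.symm y)
  have h2 := congrArg e h1
  rw [map_mul, map_mul, e.apply_symm_apply, e.apply_symm_apply] at h2
  exact h2

/-- cyclicity is transported along a multiplicative equivalence -/
theorem mb_goodt_cyclic_of_equiv {A B : Type*} [Group A] [Group B] (e : A ≃* B)
    (h : IsCyclic A) : IsCyclic B :=
  isCyclic_of_surjective e.toMonoidHom e.surjective

/-- `Good Y` is `GoodT ↥Y`. -/
theorem good_iff_goodT (Y : Subgroup S) : Good Y ↔ GoodT ↥Y := by
  constructor
  · intro h A' hc h8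
    let e : ↥A' ≃* ↥(A'.map Y.subtype) := Subgroup.equivMapOfInjective A' Y.subtype Y.subtype_injective
    have h1 : IsCyclic ↥(A'.map Y.subtype) :=
      h (A'.map Y.subtype) (Subgroup.map_subtype_le A') (mb_goodt_comm_of_equiv e hc)
        (by rw [← Nat.card_congr e.toEquiv]; exact h8)
    exact mb_goodt_cyclic_of_equiv e.symm h1
  · intro h A hA hc h8
    let e : ↥(A.subgroupOf Y) ≃* ↥A := Subgroup.subgroupOfEquivOfLe hA
    have h1 : IsCyclic ↥(A.subgroupOf Y) :=
      h (A.subgroupOf Y) (mb_goodt_comm_of_equiv e.symm hc)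
        (by rw [Nat.card_congr e.toEquiv]; exact h8)
    exact mb_goodt_cyclic_of_equiv e h1

/-- `GoodT Y` is `Good ⊤`. -/
theorem goodT_iff_good_top (Y : Type*) [Group Y] : GoodT Y ↔ Good (⊤ : Subgroup Y) := by
  constructor
  · intro h A _ hc h8
    exact h A hc h8
  · intro h A hc h8
    exact h A le_top hc h8

end Cfsg.Agent.Helper17.MB
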