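import Mathlib
import Cfsg.Agent.Lib.MB.MBDefs
import Cfsg.Agent.S0016

/-! S4409 piece MB-ABNC4 (helper17 design; see plans/S4409_plan.md): an abelian noncyclic 2-subgroup
contains a noncyclic subgroup of order 4. -/

set_option autoImplicit false

namespace Cfsg.Agent.Helper17.MB

variable {S : Type*} [Group S]

/-- generalised quaternion groups of order at least 8 are not commutative -/
theorem mb_abnc4_quaternion_comm {n : ℕ}
    (h : ∀ a b : QuaternionGroup (2 ^ n), a * b = b * a) : n = 0 := by
  have h1 := h (QuaternionGroup.a 1) (QuaternionGroup.xa 0)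
  rw [QuaternionGroup.a_mul_xa, QuaternionGroup.xa_mul_a] at h1
  have h2 : (0 - 1 : ZMod (2 * 2 ^ n)) = 0 + 1 := QuaternionGroup.xa.inj h1
  have h3 : ((2 : ℕ) : ZMod (2 * 2 ^ n)) = 0 := by
    have : (2 : ZMod (2 * 2 ^ n)) = (0 + 1) - (0 - 1) := by ring
    rw [← h2, sub_self] at this
    exact_mod_cast this
  rw [ZMod.natCast_eq_zero_iff] at h3
  have h4 : 2 * 2 ^ n ≤ 2 := Nat.le_of_dvd (by norm_num) h3
  by_contra hn
  have h5 : 2 ≤ 2 ^ n := by
    calc 2 = 2 ^ 1 := by norm_num
      _ ≤ 2 ^ n := Nat.pow_le_pow_right (by norm_num) (Nat.one_le_iff_ne_zero.mpr hn)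
  omega

/-- an abelian noncyclic 2-subgroup contains a noncyclic subgroup of order 4. -/
theorem exists_e4_of_abelian_noncyclic [Finite S] (Y : Subgroup S) (h2 : IsPGroup 2 ↥Y)
    (hab : ∀ a ∈ Y, ∀ b ∈ Y, a * b = b * a) (hnc : ¬ IsCyclic ↥Y) :
    ∃ E : Subgroup S, E ≤ Y ∧ IsE4 E := by
  haveI : Fact (Nat.Prime 2) := ⟨Nat.prime_two⟩
  have hcomm : ∀ a b : ↥Y, a * b = b * a := by
    intro a b
    apply Subtype.ext
    exact hab a a.2 b b.2
  -- the subgroup of elements of order at most two
  let Ω : Subgroup ↥Y :=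
    { carrier := {x | x ^ 2 = 1}
      one_mem' := one_pow 2
      mul_mem' := by
        intro a b ha hb
        have hc : Commute a b := hcomm a b
        show (a * b) ^ 2 = 1
        rw [hc.mul_pow, ha, hb, one_mul]
      inv_mem' := by
        intro a ha
        show a⁻¹ ^ 2 = 1
        rw [inv_pow, ha, inv_one] }
  have hΩmem : ∀ x : ↥Y, x ∈ Ω ↔ x ^ 2 = 1 := fun x => Iff.rfl
  have hΩ2 : IsPGroup 2 ↥Ω := h2.to_subgroup Ω
  obtain ⟨n, hn⟩ := IsPGroup.iff_card.mp hΩ2
  by_cases hn2 : 2 ≤ n
  · -- a subgroup of order four of `Ω`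
    have hdvd : 2 ^ 2 ∣ Nat.card ↥Ω := by
      rw [hn]
      exact pow_dvd_pow 2 hn2
    obtain ⟨K, hK⟩ := Sylow.exists_subgroup_card_pow_prime 2 hdvd
    refine ⟨(K.map Ω.subtype).map Y.subtype, Subgroup.map_subtype_le _, ?_, ?_⟩
    · rw [Subgroup.card_map_of_injective Y.subtype_injective,
        Subgroup.card_map_of_injective Ω.subtype_injective, hK]
      norm_num
    · intro hcyc
      have hcard : Nat.card ↥((K.map Ω.subtype).map Y.subtype) = 4 := by
        rw [Subgroup.card_map_of_injective Y.subtype_injective,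
          Subgroup.card_map_of_injective Ω.subtype_injective, hK]
        norm_num
      have hexp : Monoid.exponent ↥((K.map Ω.subtype).map Y.subtype) ∣ 2 := by
        apply Monoid.exponent_dvd_of_forall_pow_eq_one
        rintro ⟨e, he⟩
        obtain ⟨y, hy, rfl⟩ := he
        obtain ⟨w, -, rfl⟩ := hy
        apply Subtype.ext
        have hw : (w : ↥Y) ^ 2 = 1 := w.2
        have := congrArg (fun z : ↥Y => (z : S)) hw
        simpa using this
      rw [IsCyclic.exponent_eq_card, hcard] at hexp
      omega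
  · -- unique subgroup of order two
    exfalso
    have hΩcard : Nat.card ↥Ω ≤ 2 := by
      rw [hn]
      have : n ≤ 1 := by omega
      calc 2 ^ n ≤ 2 ^ 1 := Nat.pow_le_pow_right (by norm_num) this
        _ = 2 := by norm_num
    have huniq : ∀ H K : Subgroup ↥Y, Nat.card H = 2 → Nat.card K = 2 → H = K := by
      have key : ∀ H : Subgroup ↥Y, Nat.card H = 2 → H = Ω := by
        intro H hH
        have hle : H ≤ Ω := by
          intro x hx
          rw [hΩmem]
          have h1 : (⟨x, hx⟩ : ↥H) ^ Nat.card ↥H = 1 := pow_card_eq_one'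
          rw [hH] at h1
          have := congrArg (fun z : ↥H => (z : ↥Y)) h1
          simpa using this
        exact Subgroup.eq_of_le_of_card_ge hle (by rw [hH]; exact hΩcard)
      intro H K hH hK
      rw [key H hH, key K hK]
    rcases Cfsg.Agent.S0016.result 2 h2 huniq with hc | ⟨-, m, ⟨e⟩⟩
    · exact hnc hc
    · have hq : ∀ a b : QuaternionGroup (2 ^ m), a * b = b * a := by
        intro a b
        have h1 := hcomm (e.symm a) (e.symm b)
        rw [← map_mul, ← map_mul] at h1
        exact e.symm.injective h1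
      have hm := mb_abnc4_quaternion_comm hq
      subst hm
      apply hnc
      haveI : IsCyclic (QuaternionGroup (2 ^ 0)) := by
        rw [pow_zero]
        exact QuaternionGroup.quaternionGroup_one_isCyclic
      exact isCyclic_of_surjective e.symm e.symm.surjective

end Cfsg.Agent.Helper17.MB
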