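import Mathlib
import Cfsg.Agent.Lib.MB.MBDefs
import Cfsg.Agent.Lib.MB.MBABNC4

/-! S4409 piece MB-ABGOOD (helper17 design; see plans/S4409_plan.md). -/

set_option autoImplicit false

namespace Cfsg.Agent.Helper17.MB

variable {S : Type*} [Group S]

/-- a good abelian 2-subgroup is cyclic or has order at most 4. -/
theorem cyclic_or_card_le_of_abelian_good [Finite S] (Y : Subgroup S) (h2 : IsPGroup 2 ↥Y)
    (hab : ∀ a ∈ Y, ∀ b ∈ Y, a * b = b * a) (hg : Good Y) :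
    IsCyclic ↥Y ∨ Nat.card ↥Y ≤ 4 := by
  classical
  have : Fact (Nat.Prime 2) := ⟨Nat.prime_two⟩
  by_contra hcon
  push Not at hcon
  obtain ⟨hnc, hgt⟩ := hcon
  obtain ⟨E, hEY, hE4, hEnc⟩ := exists_e4_of_abelian_noncyclic Y h2 hab hnc
  obtain ⟨n, hn⟩ := IsPGroup.iff_card.mp h2
  have hn3 : 3 ≤ n := by
    by_contra h
    have : n ≤ 2 := by omega
    have h1 : 2 ^ n ≤ 2 ^ 2 := Nat.pow_le_pow_right (by norm_num) this
    rw [hn] at hgt
    omega
  have hdvd : 2 ^ 3 ∣ Nat.card ↥Y := by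
    rw [hn]
    exact pow_dvd_pow 2 hn3
  have hE' : Nat.card ↥(E.subgroupOf Y) = 2 ^ 2 := by
    rw [Nat.card_congr (Subgroup.subgroupOfEquivOfLe hEY).toEquiv, hE4]
    norm_num
  obtain ⟨A', hA'card, hEA'⟩ :=
    Sylow.exists_subgroup_card_pow_prime_le 2 hdvd (E.subgroupOf Y) hE' (by norm_num)
  have hAY : A'.map Y.subtype ≤ Y := Subgroup.map_subtype_le _
  have hAcomm : IsMulCommutative ↥(A'.map Y.subtype) :=
    ⟨⟨fun a b => Subtype.ext (hab a (hAY a.2) b (hAY b.2))⟩⟩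
  have hAcard : Nat.card ↥(A'.map Y.subtype) = 8 := by
    rw [Subgroup.card_map_of_injective Y.subtype_injective, hA'card]
    norm_num
  have hAcyc : IsCyclic ↥(A'.map Y.subtype) := hg _ hAY hAcomm hAcard
  have hEA : E ≤ A'.map Y.subtype := by
    intro e he
    refine ⟨⟨e, hEY he⟩, hEA' ?_, rfl⟩
    rw [Subgroup.mem_subgroupOf]
    exact he
  apply hEnc
  have := hAcyc
  exact isCyclic_of_surjective (Subgroup.subgroupOfEquivOfLe hEA)
    (Subgroup.subgroupOfEquivOfLe hEA).surjective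

end Cfsg.Agent.Helper17.MB
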