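import Mathlib
import Cfsg.Agent.Lib.MB.MBDefs

/-! S4409 piece MB-CENTGOOD (helper17 design; see plans/S4409_plan.md): in a good 2-group a
four-group is self-centralizing. -/

set_option autoImplicit false
set_option linter.style.haveILetI false

namespace Cfsg.Agent.Helper17.MB

variable {S : Type*} [Group S]

/-- the subgroup `B ∪ cB` for an element `c` centralizing the abelian group `B` with `c² ∈ B`. -/
def mb_centgood_sub (B : Subgroup S) (c : S) (hc : ∀ b ∈ B, c * b = b * c) (hc2 : c ^ 2 ∈ B) :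
    Subgroup S where
  carrier := {x | x ∈ B ∨ c⁻¹ * x ∈ B}
  one_mem' := Or.inl B.one_mem
  mul_mem' := by
    intro x y hx hy
    have hci : ∀ b ∈ B, c⁻¹ * b = b * c⁻¹ := by
      intro b hb
      have := hc b hb
      calc c⁻¹ * b = c⁻¹ * (b * c) * c⁻¹ := by group
        _ = c⁻¹ * (c * b) * c⁻¹ := by rw [this]
        _ = b * c⁻¹ := by group
    rcases hx with hx | hx <;> rcases hy with hy | hy
    · exact Or.inl (B.mul_mem hx hy)
    · right
      have : c⁻¹ * (x * y) = x * (c⁻¹ * y) := by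
        rw [← mul_assoc, hci x hx, mul_assoc]
      rw [this]
      exact B.mul_mem hx hy
    · right
      rw [← mul_assoc]
      exact B.mul_mem hx hy
    · left
      have h1 : x * y = c ^ 2 * ((c⁻¹ * x) * (c⁻¹ * y)) := by
        have h2 := hc _ hx
        calc x * y = c * (c⁻¹ * x) * (c * (c⁻¹ * y)) := by group
          _ = c * ((c⁻¹ * x) * c) * (c⁻¹ * y) := by group
          _ = c * (c * (c⁻¹ * x)) * (c⁻¹ * y) := by rw [h2]
          _ = c ^ 2 * ((c⁻¹ * x) * (c⁻¹ * y)) := by group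
      rw [h1]
      exact B.mul_mem hc2 (B.mul_mem hx hy)
  inv_mem' := by
    intro x hx
    rcases hx with hx | hx
    · exact Or.inl (B.inv_mem hx)
    · right
      obtain ⟨b, hb, hxb⟩ : ∃ b ∈ B, x = c * b := ⟨c⁻¹ * x, hx, by group⟩
      have h2 := hc b hb
      have h3 : c⁻¹ * b⁻¹ = b⁻¹ * c⁻¹ := by
        have := congrArg (fun t => t⁻¹) h2
        simp only [mul_inv_rev] at this
        exact this.symm
      have h1 : c⁻¹ * x⁻¹ = b⁻¹ * (c ^ 2)⁻¹ := by
        rw [hxb]
        calc c⁻¹ * (c * b)⁻¹ = (c⁻¹ * b⁻¹) * c⁻¹ := by group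
          _ = (b⁻¹ * c⁻¹) * c⁻¹ := by rw [h3]
          _ = b⁻¹ * (c ^ 2)⁻¹ := by group
      rw [h1]
      exact B.mul_mem (B.inv_mem hb) (B.inv_mem hc2)

theorem mb_centgood_mem (B : Subgroup S) (c : S) (hc : ∀ b ∈ B, c * b = b * c) (hc2 : c ^ 2 ∈ B)
    (x : S) : x ∈ mb_centgood_sub B c hc hc2 ↔ x ∈ B ∨ c⁻¹ * x ∈ B := Iff.rfl

theorem mb_centgood_card [Finite S] (B : Subgroup S) (c : S) (hc : ∀ b ∈ B, c * b = b * c)
    (hc2 : c ^ 2 ∈ B) (hcB : c ∉ B) :
    Nat.card ↥(mb_centgood_sub B c hc hc2) = 2 * Nat.card ↥B := by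
  have hset : ((mb_centgood_sub B c hc hc2 : Subgroup S) : Set S) =
      (B : Set S) ∪ (fun b => c * b) '' (B : Set S) := by
    ext x
    simp only [SetLike.mem_coe, mb_centgood_mem, Set.mem_union, Set.mem_image]
    constructor
    · rintro (h | h)
      · exact Or.inl h
      · exact Or.inr ⟨c⁻¹ * x, h, by group⟩
    · rintro (h | ⟨b, hb, rfl⟩)
      · exact Or.inl h
      · right
        have : c⁻¹ * (c * b) = b := by group
        rw [this]; exact hb
  have hdisj : Disjoint (B : Set S) ((fun b => c * b) '' (B : Set S)) := by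
    rw [Set.disjoint_left]
    rintro x hx ⟨b, hb, rfl⟩
    apply hcB
    have : c = (c * b) * b⁻¹ := by group
    rw [this]
    exact B.mul_mem hx (B.inv_mem hb)
  have hinj : Function.Injective (fun b : S => c * b) := mul_right_injective c
  have h1 : Nat.card ↥(mb_centgood_sub B c hc hc2) =
      ((mb_centgood_sub B c hc hc2 : Subgroup S) : Set S).ncard := Nat.card_coe_set_eq _
  have h2 : Nat.card ↥B = (B : Set S).ncard := Nat.card_coe_set_eq _
  rw [h1, hset, Set.ncard_union_eq hdisj (Set.toFinite _) (Set.toFinite _),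
    Set.ncard_image_of_injective _ hinj, h2]
  ring

/-- in a good 2-group a four-group is self-centralizing. -/
theorem centralizer_e4_le_of_good [Finite S] (Y B : Subgroup S) (h2 : IsPGroup 2 ↥Y)
    (hg : Good Y) (hBY : B ≤ Y) (hB : IsE4 B) :
    Y ⊓ Subgroup.centralizer (B : Set S) ≤ B := by
  classical
  by_contra hnot
  obtain ⟨c₀, hc₀D, hc₀B⟩ := SetLike.not_le_iff_exists.mp hnot
  rw [Subgroup.mem_inf] at hc₀D
  obtain ⟨hc₀Y, hc₀C⟩ := hc₀D
  -- some 2-power of `c₀` lies in `B`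
  obtain ⟨k, hk⟩ := h2 ⟨c₀, hc₀Y⟩
  have hk' : c₀ ^ 2 ^ k = 1 := by simpa using congrArg Subtype.val hk
  have hex : ∃ j : ℕ, c₀ ^ 2 ^ j ∈ B := ⟨k, by rw [hk']; exact B.one_mem⟩
  have hj0 : Nat.find hex ≠ 0 := by
    intro h0
    have := Nat.find_spec hex
    rw [h0, pow_zero, pow_one] at this
    exact hc₀B this
  obtain ⟨j, hj⟩ : ∃ j, Nat.find hex = j + 1 := ⟨Nat.find hex - 1, by omega⟩
  obtain ⟨c, hcdef⟩ : ∃ c : S, c = c₀ ^ 2 ^ j := ⟨_, rfl⟩
  have hcB : c ∉ B := by
    rw [hcdef]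
    exact Nat.find_min hex (by omega)
  have hc2 : c ^ 2 ∈ B := by
    have := Nat.find_spec hex
    rw [hj, pow_succ, pow_mul] at this
    rw [hcdef]
    exact this
  have hcY : c ∈ Y := by rw [hcdef]; exact Y.pow_mem hc₀Y _
  have hcC : c ∈ Subgroup.centralizer (B : Set S) := by
    rw [hcdef]; exact Subgroup.pow_mem _ hc₀C _
  have hc : ∀ b ∈ B, c * b = b * c := by
    intro b hb
    exact (Subgroup.mem_centralizer_iff.mp hcC b hb).symm
  -- `B` is commutative
  have hBcomm : ∀ a ∈ B, ∀ b ∈ B, a * b = b * a := by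
    have hsq : Nat.card ↥B = 2 ^ 2 := by rw [hB.1]; norm_num
    haveI : Fact (Nat.Prime 2) := ⟨Nat.prime_two⟩
    intro a ha b hb
    have h := IsPGroup.isMulCommutative_of_card_eq_prime_sq (p := 2) (G := ↥B) hsq
    have := h.is_comm.comm ⟨a, ha⟩ ⟨b, hb⟩
    exact congrArg Subtype.val this
  set A := mb_centgood_sub B c hc hc2 with hA
  have hBA : B ≤ A := fun x hx => (mb_centgood_mem B c hc hc2 x).mpr (Or.inl hx)
  have hAY : A ≤ Y := by
    intro x hx
    rcases (mb_centgood_mem B c hc hc2 x).mp hx with h | h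
    · exact hBY h
    · have : x = c * (c⁻¹ * x) := by group
      rw [this]
      exact Y.mul_mem hcY (hBY h)
  have hAcard : Nat.card ↥A = 8 := by
    rw [hA, mb_centgood_card B c hc hc2 hcB, hB.1]
  have hAcomm : IsMulCommutative ↥A := by
    refine ⟨⟨fun x y => Subtype.ext ?_⟩⟩
    show (x : S) * (y : S) = (y : S) * (x : S)
    -- every element is `b` or `c * b`
    have hform : ∀ z : ↥A, ∃ b ∈ B, (z : S) = b ∨ (z : S) = c * b := by
      intro z
      rcases (mb_centgood_mem B c hc hc2 z).mp z.2 with h | h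
      · exact ⟨_, h, Or.inl rfl⟩
      · exact ⟨_, h, Or.inr (by group)⟩
    obtain ⟨b₁, hb₁, h₁⟩ := hform x
    obtain ⟨b₂, hb₂, h₂⟩ := hform y
    have e12 := hBcomm b₁ hb₁ b₂ hb₂
    have e1 := hc b₁ hb₁
    have e2 := hc b₂ hb₂
    rcases h₁ with h₁ | h₁ <;> rcases h₂ with h₂ | h₂ <;> rw [h₁, h₂]
    · exact e12
    · calc b₁ * (c * b₂) = (b₁ * c) * b₂ := by group
        _ = (c * b₁) * b₂ := by rw [e1]
        _ = c * (b₁ * b₂) := by group
        _ = c * (b₂ * b₁) := by rw [e12]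
        _ = c * b₂ * b₁ := by group
    · calc c * b₁ * b₂ = c * (b₁ * b₂) := by group
        _ = c * (b₂ * b₁) := by rw [e12]
        _ = (c * b₂) * b₁ := by group
        _ = (b₂ * c) * b₁ := by rw [e2]
        _ = b₂ * (c * b₁) := by group
    · calc c * b₁ * (c * b₂) = c * (b₁ * c) * b₂ := by group
        _ = c * (c * b₁) * b₂ := by rw [e1]
        _ = c * c * (b₁ * b₂) := by group
        _ = c * c * (b₂ * b₁) := by rw [e12]
        _ = c * (c * b₂) * b₁ := by group
        _ = c * (b₂ * c) * b₁ := by rw [e2]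
        _ = c * b₂ * (c * b₁) := by group
  have hAcyc : IsCyclic ↥A := hg A hAY hAcomm hAcard
  -- then `B` is cyclic
  apply hB.2
  haveI := hAcyc
  have h1 : IsCyclic ↥(B.subgroupOf A) := inferInstance
  exact (Subgroup.subgroupOfEquivOfLe hBA).isCyclic.mp h1

end Cfsg.Agent.Helper17.MB
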