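import Mathlib
import Cfsg.Agent.Lib.MB.MBDefs

/-! S4409 piece MB-IDX4 (helper17 design; see plans/S4409_plan.md).  Proved by helper10. -/

set_option autoImplicit false

namespace Cfsg.Agent.Helper17.MB

variable {S : Type*} [Group S]

/-- a 2-subgroup of the automorphism group of a group of order 4 has order at most 2. -/
theorem mb_idx4_aut {B : Type*} [Group B] [Finite B] (hB : Nat.card B = 4)
    (R : Subgroup (MulAut B)) (hR : IsPGroup 2 ↥R) : Nat.card ↥R ≤ 2 := by
  haveI : Fact (Nat.Prime 2) := ⟨Nat.prime_two⟩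
  let F : Subgroup B :=
    { carrier := {b | ∀ α ∈ R, α b = b}
      one_mem' := fun α _ => map_one α
      mul_mem' := by
        intro a b ha hb α hα
        rw [map_mul, ha α hα, hb α hα]
      inv_mem' := by
        intro a ha α hα
        rw [map_inv, ha α hα] }
  have hFmem : ∀ b, b ∈ F ↔ ∀ α ∈ R, α b = b := fun b => Iff.rfl
  have hFfix : Nat.card ↥F = Nat.card ↥(MulAction.fixedPoints ↥R B) := by
    apply Nat.card_congr
    apply Equiv.subtypeEquivRight
    intro b
    rw [MulAction.mem_fixedPoints]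
    constructor
    · intro h α
      exact h α.1 α.2
    · intro h α hα
      exact h ⟨α, hα⟩
  have hmod : Nat.card B ≡ Nat.card ↥(MulAction.fixedPoints ↥R B) [MOD 2] :=
    hR.card_modEq_card_fixedPoints B
  rw [← hFfix, hB] at hmod
  have hdvd : Nat.card ↥F ∣ 4 := hB ▸ Subgroup.card_subgroup_dvd_card F
  have hle4 : Nat.card ↥F ≤ 4 := Nat.le_of_dvd (by norm_num) hdvd
  have heven : Nat.card ↥F % 2 = 0 := by
    have := hmod
    unfold Nat.ModEq at this
    omega
  have hcases : Nat.card ↥F = 2 ∨ Nat.card ↥F = 4 := by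
    have hpos : 0 < Nat.card ↥F := Nat.card_pos
    omega
  rcases hcases with h2 | h4
  · -- `F` has index 2
    have hidx : F.index = 2 := by
      have := F.card_mul_index
      rw [h2, hB] at this
      omega
    have hne : F ≠ ⊤ := by
      intro h
      rw [h, Subgroup.index_top] at hidx
      omega
    obtain ⟨u, -, hu⟩ := SetLike.exists_of_lt (lt_top_iff_ne_top.2 hne)
    have hau : ∀ α ∈ R, α u ∉ F := by
      intro α hα hmem
      apply hu
      have h1 := (hFmem _).1 hmem α⁻¹ (R.inv_mem hα)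
      have h2 : α⁻¹ (α u) = u := by
        change α.symm (α u) = u
        exact α.symm_apply_apply u
      rw [h2] at h1
      rw [h1]
      exact hmem
    have hmemF : ∀ α ∈ R, u⁻¹ * α u ∈ F := by
      intro α hα
      rw [Subgroup.mul_mem_iff_of_index_two hidx, Subgroup.inv_mem_iff]
      exact ⟨fun h => absurd h hu, fun h => absurd h (hau α hα)⟩
    let f : ↥R → ↥F := fun α => ⟨u⁻¹ * α.1 u, hmemF α.1 α.2⟩
    have hf : Function.Injective f := by
      intro α β hab
      have h1 : u⁻¹ * α.1 u = u⁻¹ * β.1 u := congrArg Subtype.val hab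
      have h2 : α.1 u = β.1 u := mul_left_cancel h1
      apply Subtype.ext
      apply MulEquiv.ext
      intro b
      by_cases hb : b ∈ F
      · rw [(hFmem b).1 hb α.1 α.2, (hFmem b).1 hb β.1 β.2]
      · have hub : u⁻¹ * b ∈ F := by
          rw [Subgroup.mul_mem_iff_of_index_two hidx, Subgroup.inv_mem_iff]
          exact ⟨fun h => absurd h hu, fun h => absurd h hb⟩
        have hbe : b = u * (u⁻¹ * b) := by group
        calc α.1 b = α.1 (u * (u⁻¹ * b)) := by rw [← hbe]
          _ = α.1 u * α.1 (u⁻¹ * b) := map_mul _ _ _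
          _ = β.1 u * β.1 (u⁻¹ * b) := by
              rw [(hFmem _).1 hub α.1 α.2, (hFmem _).1 hub β.1 β.2, h2]
          _ = β.1 (u * (u⁻¹ * b)) := (map_mul _ _ _).symm
          _ = β.1 b := by rw [← hbe]
    calc Nat.card ↥R ≤ Nat.card ↥F := Nat.card_le_card_of_injective f hf
      _ = 2 := h2
  · have htop : F = ⊤ := (Subgroup.card_eq_iff_eq_top F).1 (h4.trans hB.symm)
    have hsub : Subsingleton ↥R := by
      refine ⟨fun α β => ?_⟩
      apply Subtype.ext
      apply MulEquiv.ext
      intro b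
      have hb : b ∈ F := htop ▸ Subgroup.mem_top b
      rw [(hFmem b).1 hb α.1 α.2, (hFmem b).1 hb β.1 β.2]
    rw [Nat.card_of_subsingleton (1 : ↥R)]
    norm_num

/-- a normal subgroup of order 4 of a 2-group has centralizer of index at most 2. -/
theorem card_le_two_mul_centralizer [Finite S] (P B : Subgroup S) (h2 : IsPGroup 2 ↥P)
    (hBP : B ≤ P) (hn : P ≤ Subgroup.normalizer (B : Set S)) (hB : Nat.card ↥B = 4) :
    Nat.card ↥P ≤ 2 * Nat.card ↥(P ⊓ Subgroup.centralizer (B : Set S)) := by
  let ψ : ↥P →* MulAut ↥B := B.normalizerMonoidHom.comp (Subgroup.inclusion hn)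
  have hker : ψ.ker = (P ⊓ Subgroup.centralizer (B : Set S)).subgroupOf P := by
    ext g
    rw [MonoidHom.mem_ker, Subgroup.mem_subgroupOf, Subgroup.mem_inf]
    have h1 : ψ g = 1 ↔ Subgroup.inclusion hn g ∈ B.normalizerMonoidHom.ker := by
      rw [MonoidHom.mem_ker]; rfl
    rw [h1, Subgroup.normalizerMonoidHom_ker, Subgroup.mem_subgroupOf]
    constructor
    · intro h
      exact ⟨g.2, h⟩
    · intro h
      exact h.2
  have hcardker : Nat.card ↥ψ.ker = Nat.card ↥(P ⊓ Subgroup.centralizer (B : Set S)) := by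
    rw [hker]
    exact Nat.card_congr (Subgroup.subgroupOfEquivOfLe inf_le_left).toEquiv
  have hrange : IsPGroup 2 ↥ψ.range :=
    h2.of_surjective ψ.rangeRestrict ψ.rangeRestrict_surjective
  have hr2 : Nat.card ↥ψ.range ≤ 2 := mb_idx4_aut hB ψ.range hrange
  have h3 := ψ.ker.card_mul_index
  rw [Subgroup.index_ker, hcardker] at h3
  rw [← h3, mul_comm]
  exact Nat.mul_le_mul_right _ hr2

end Cfsg.Agent.Helper17.MB
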