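import Mathlib
import Cfsg.Agent.Lib.MB.MBDefs

/-! S4409 piece MB-ORD8AUT (helper17 design; see plans/S4409_plan.md). -/

set_option autoImplicit false

namespace Cfsg.Agent.Helper17.MB

variable {S : Type*} [Group S]

/-- in a finite group, every power of `x` is a natural power below the order. -/
theorem mb_ord8aut_pow_lt {Y : Type*} [Group Y] [Finite Y] (x y : Y)
    (hy : y ∈ Subgroup.zpowers x) : ∃ k < orderOf x, x ^ k = y := by
  classical
  rw [mem_zpowers_iff_mem_range_orderOf] at hy
  obtain ⟨k, hk, hky⟩ := Finset.mem_image.1 hy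
  exact ⟨k, Finset.mem_range.1 hk, hky⟩

/-- a group of order 8 without element of order 4 is commutative. -/
theorem mb_ord8aut_exists_four {Y : Type*} [Group Y] [Finite Y] (h8 : Nat.card Y = 8)
    (hna : ¬ IsMulCommutative Y) : ∃ x : Y, orderOf x = 4 := by
  by_contra hno
  push Not at hno
  apply hna
  -- every element has square one
  have hsq : ∀ g : Y, g * g = 1 := by
    intro g
    have hd : orderOf g ∣ 8 := h8 ▸ orderOf_dvd_natCard g
    have hle : orderOf g ≤ 8 := Nat.le_of_dvd (by norm_num) hd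
    have hpos := orderOf_pos g
    have hcases : orderOf g = 1 ∨ orderOf g = 2 ∨ orderOf g = 4 ∨ orderOf g = 8 := by
      interval_cases h : orderOf g <;> simp_all
    rcases hcases with h | h | h | h
    · rw [orderOf_eq_one_iff] at h; rw [h, one_mul]
    · rw [← pow_two, ← h, pow_orderOf_eq_one]
    · exact absurd h (hno g)
    · exfalso
      apply hno (g ^ 2)
      rw [orderOf_pow' g (by norm_num), h]
      norm_num
  have hinv : ∀ g : Y, g⁻¹ = g := fun g => (eq_inv_of_mul_eq_one_left (hsq g)).symm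
  refine ⟨⟨fun g h => ?_⟩⟩
  calc g * h = (g * h)⁻¹ := (hinv _).symm
    _ = h⁻¹ * g⁻¹ := mul_inv_rev g h
    _ = h * g := by rw [hinv, hinv]

/-- a nonabelian group of order 8 with a four-subgroup has `Aut` a 2-group. -/
theorem aut_isPGroup_of_card_eight {Y : Type*} [Group Y] [Finite Y] (h8 : Nat.card Y = 8)
    (hna : ¬ IsMulCommutative Y) (E : Subgroup Y) (hE : IsE4 E) : IsPGroup 2 (MulAut Y) := by
  obtain ⟨x, hx⟩ := mb_ord8aut_exists_four h8 hna
  have hx4 : x ^ 4 = 1 := by rw [← hx, pow_orderOf_eq_one]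
  have hCcard : Nat.card (Subgroup.zpowers x) = 4 := by rw [Nat.card_zpowers, hx]
  have hidx : (Subgroup.zpowers x).index = 2 := by
    have h1 := Subgroup.card_mul_index (Subgroup.zpowers x)
    rw [hCcard, h8] at h1
    omega
  have hCn : (Subgroup.zpowers x).Normal := Subgroup.normal_of_index_eq_two hidx
  -- an element of `E` outside `⟨x⟩`
  obtain ⟨a, haE, haC⟩ : ∃ a ∈ E, a ∉ Subgroup.zpowers x := by
    by_contra hno
    push Not at hno
    have hle : E ≤ Subgroup.zpowers x := hno
    have heq : E = Subgroup.zpowers x :=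
      Subgroup.eq_of_le_of_card_ge hle (by rw [hCcard, hE.1])
    apply hE.2
    rw [heq]
    infer_instance
  -- `a` has square one
  have haa : a * a = 1 := by
    have hd : orderOf (⟨a, haE⟩ : E) ∣ 4 := hE.1 ▸ orderOf_dvd_natCard _
    have hle : orderOf (⟨a, haE⟩ : E) ≤ 4 := Nat.le_of_dvd (by norm_num) hd
    have hpos := orderOf_pos (⟨a, haE⟩ : E)
    have hne4 : orderOf (⟨a, haE⟩ : E) ≠ 4 := by
      intro h4
      exact hE.2 (isCyclic_of_orderOf_eq_card _ (by rw [h4, hE.1]))
    have hcases : orderOf (⟨a, haE⟩ : E) = 1 ∨ orderOf (⟨a, haE⟩ : E) = 2 := by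
      interval_cases h : orderOf (⟨a, haE⟩ : E) <;> simp_all
    have h2 : (⟨a, haE⟩ : E) ^ 2 = 1 := by
      rcases hcases with h | h
      · rw [orderOf_eq_one_iff] at h; rw [h, one_pow]
      · rw [← h, pow_orderOf_eq_one]
    have := congrArg Subtype.val h2
    simpa [pow_two] using this
  have hainv : a⁻¹ = a := (eq_inv_of_mul_eq_one_left haa).symm
  -- every element is `x ^ i` or `a * x ^ i`
  have hform : ∀ g : Y, ∃ i : ℕ, g = x ^ i ∨ g = a * x ^ i := by
    intro g
    by_cases hg : g ∈ Subgroup.zpowers x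
    · obtain ⟨k, -, hk⟩ := mb_ord8aut_pow_lt x g hg
      exact ⟨k, Or.inl hk.symm⟩
    · have hmem : a⁻¹ * g ∈ Subgroup.zpowers x := by
        rw [Subgroup.mul_mem_iff_of_index_two hidx, Subgroup.inv_mem_iff]
        exact ⟨fun h => absurd h haC, fun h => absurd h hg⟩
      obtain ⟨k, -, hk⟩ := mb_ord8aut_pow_lt x _ hmem
      exact ⟨k, Or.inr (by rw [hk, mul_inv_cancel_left])⟩
  -- `a` inverts `x`
  have hconj : a * x * a⁻¹ ∈ Subgroup.zpowers x := hCn.conj_mem x (Subgroup.mem_zpowers x) a
  obtain ⟨k, hk4, hk⟩ := mb_ord8aut_pow_lt x _ hconj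
  rw [hx] at hk4
  have hordconj : orderOf (a * x * a⁻¹) = 4 := by
    rw [← hx]
    have hsc : SemiconjBy a x (a * x * a⁻¹) := by
      unfold SemiconjBy
      group
    exact (hsc.orderOf_eq a).symm
  have hinvx : a * x * a⁻¹ = x⁻¹ := by
    interval_cases k
    · exfalso
      rw [pow_zero] at hk
      rw [← hk, orderOf_one] at hordconj
      omega
    · exfalso
      rw [pow_one] at hk
      have hcomm : Commute a x := by
        have : a * x = x * a := by
          calc a * x = a * x * a⁻¹ * a := by group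
            _ = x * a := by rw [← hk]
        exact this
      apply hna
      refine ⟨⟨fun g h => ?_⟩⟩
      obtain ⟨i, hi⟩ := hform g
      obtain ⟨j, hj⟩ := hform h
      have h1 : Commute (x ^ i) (x ^ j) := (Commute.refl x).pow_pow i j
      have h2 : Commute a (x ^ j) := hcomm.pow_right j
      have h3 : Commute a (x ^ i) := hcomm.pow_right i
      rcases hi with rfl | rfl <;> rcases hj with rfl | rfl
      · exact h1
      · exact (h3.symm.mul_right h1 : Commute (x ^ i) (a * x ^ j))
      · exact (h2.symm.mul_right h1.symm : Commute (x ^ j) (a * x ^ i)).symm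
      · exact ((Commute.refl a).mul_right h2).mul_left (h3.symm.mul_right h1)
    · exfalso
      have h1 : (a * x * a⁻¹) ^ 2 = 1 := by
        rw [← hk, ← pow_mul]; exact hx4
      have := orderOf_dvd_of_pow_eq_one h1
      rw [hordconj] at this
      omega
    · rw [← hk]
      exact eq_inv_of_mul_eq_one_left (by rw [← pow_succ]; exact hx4)
  have hinvpow : ∀ i : ℕ, a * x ^ i * a⁻¹ = (x ^ i)⁻¹ := by
    intro i
    rw [← conj_pow, hinvx, inv_pow]
  refine Cfsg.Agent.Helper16.aut_isPGroup_of_cyclic_index_two 2 (by norm_num) (by rw [h8]; norm_num)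
    x (by rw [hx]; norm_num) ?_
  intro g hg
  obtain ⟨i, hi⟩ := hform g
  rcases hi with rfl | rfl
  · exact absurd (Subgroup.pow_mem _ (Subgroup.mem_zpowers x) i) hg
  · have hsq : (a * x ^ i) ^ 2 = 1 := by
      rw [pow_two]
      calc a * x ^ i * (a * x ^ i) = (a * x ^ i * a⁻¹) * x ^ i := by rw [hainv]; group
        _ = 1 := by rw [hinvpow, inv_mul_cancel]
    have hd := orderOf_dvd_of_pow_eq_one hsq
    have := Nat.le_of_dvd (by norm_num) hd
    omega

end Cfsg.Agent.Helper17.MB
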