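import Mathlib
import Cfsg.Agent.Lib.MB.MBDefs
import Cfsg.Agent.Lib.MB.MBGOODT
import Cfsg.Agent.Lib.MB.MBABGOOD
import Cfsg.Agent.Lib.MB.MBCENTGOOD
import Cfsg.Agent.Lib.MB.MBIDX4
import Cfsg.Agent.Lib.MB.MBORD8AUT

/-! S4409 piece MB-CASE2 (helper17 design; see plans/S4409_plan.md).  Assembly from GOODT, ABGOOD,
CENTGOOD, IDX4, ORD8AUT (proved by helper8). -/

set_option autoImplicit false

namespace Cfsg.Agent.Helper17.MB

variable {S : Type*} [Group S]

/-- good 2-groups with a noncyclic normal abelian subgroup. -/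
theorem aut_or_e4_of_normal_abelian_noncyclic {Y : Type*} [Group Y] [Finite Y]
    (h2 : IsPGroup 2 Y) (hg : GoodT Y) (N : Subgroup Y) (hN : N.Normal)
    (hab : IsMulCommutative ↥N) (hnc : ¬ IsCyclic ↥N) :
    IsPGroup 2 (MulAut Y) ∨ (Nat.card Y = 4 ∧ ¬ IsCyclic Y) := by
  classical
  have hp2 : Fact (Nat.Prime 2) := ⟨Nat.prime_two⟩
  have hgood : Good (⊤ : Subgroup Y) := (goodT_iff_good_top Y).mp hg
  have hgN : Good N := good_mono le_top hgood
  have habN : ∀ a ∈ N, ∀ b ∈ N, a * b = b * a := by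
    intro a ha b hb
    have h1 := (isMulCommutative_iff.mp hab) ⟨a, ha⟩ ⟨b, hb⟩
    exact congrArg Subtype.val h1
  have hN4 : Nat.card ↥N ≤ 4 := by
    rcases cyclic_or_card_le_of_abelian_good N (h2.to_subgroup N) habN hgN with h | h
    · exact absurd h hnc
    · exact h
  obtain ⟨k, hk⟩ := (IsPGroup.iff_card (p := 2)).mp (h2.to_subgroup N)
  have hcardN : Nat.card ↥N = 4 := by
    have hk2 : k ≤ 2 := by
      by_contra hlt
      have h3 : 3 ≤ k := by omega
      have h4 : 2 ^ 3 ≤ 2 ^ k := Nat.pow_le_pow_right (by norm_num) h3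
      omega
    interval_cases k
    · exfalso; apply hnc
      have h1 : Nat.card ↥N = 1 := by simpa using hk
      have : Subsingleton ↥N := (Nat.card_eq_one_iff_unique.mp h1).1
      infer_instance
    · exfalso; apply hnc
      exact isCyclic_of_prime_card (p := 2) (by simpa using hk)
    · simpa using hk
  have hE4 : IsE4 N := ⟨hcardN, hnc⟩
  have hcent : (⊤ : Subgroup Y) ⊓ Subgroup.centralizer (N : Set Y) ≤ N :=
    centralizer_e4_le_of_good ⊤ N (h2.to_subgroup ⊤) hgood le_top hE4
  have hnorm : (⊤ : Subgroup Y) ≤ Subgroup.normalizer (N : Set Y) := by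
    rw [Subgroup.normalizer_eq_top]
  have hidx := card_le_two_mul_centralizer ⊤ N (h2.to_subgroup ⊤) le_top hnorm hcardN
  have hY8 : Nat.card Y ≤ 8 := by
    have h1 : Nat.card ↥((⊤ : Subgroup Y) ⊓ Subgroup.centralizer (N : Set Y)) ≤ Nat.card ↥N :=
      Subgroup.card_le_of_le hcent
    have h2' : Nat.card ↥(⊤ : Subgroup Y) = Nat.card Y := Subgroup.card_top
    omega
  have hdvd : Nat.card ↥N ∣ Nat.card Y := Subgroup.card_subgroup_dvd_card N
  obtain ⟨m, hm⟩ := (IsPGroup.iff_card (p := 2)).mp h2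
  have hm3 : m ≤ 3 := by
    by_contra hlt
    have h3 : 4 ≤ m := by omega
    have h4 : 2 ^ 4 ≤ 2 ^ m := Nat.pow_le_pow_right (by norm_num) h3
    omega
  have hcases : Nat.card Y = 4 ∨ Nat.card Y = 8 := by
    rw [hcardN] at hdvd
    interval_cases m
    · rw [hm] at hdvd; norm_num at hdvd
    · rw [hm] at hdvd; norm_num at hdvd
    · left; simpa using hm
    · right; simpa using hm
  rcases hcases with h4 | h8
  · right
    refine ⟨h4, fun hcyc => hnc ?_⟩
    infer_instance
  · left
    have hna : ¬ IsMulCommutative Y := by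
      intro hc
      have htop : Subgroup.centralizer (N : Set Y) = ⊤ := by
        rw [eq_top_iff]
        intro y _
        rw [Subgroup.mem_centralizer_iff]
        intro n _
        exact (isMulCommutative_iff.mp hc) n y
      rw [htop, inf_top_eq] at hcent
      have h1 : Nat.card ↥(⊤ : Subgroup Y) ≤ Nat.card ↥N := Subgroup.card_le_of_le hcent
      rw [Subgroup.card_top] at h1
      omega
    exact aut_isPGroup_of_card_eight h8 hna N hE4

end Cfsg.Agent.Helper17.MB
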