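import Mathlib
import Cfsg.Agent.Lib.MB.MBDefs

/-! S4409 piece MB-CYCAUT (helper17 design; see plans/S4409_plan.md).  Proved by helper10. -/

set_option autoImplicit false

namespace Cfsg.Agent.Helper17.MB

variable {S : Type*} [Group S]

/-- the automorphism group of a cyclic 2-group is a 2-group. -/
theorem aut_isPGroup_of_isCyclic {Y : Type*} [Group Y] [Finite Y] (hc : IsCyclic Y)
    (h2 : IsPGroup 2 Y) : IsPGroup 2 (MulAut Y) := by
  haveI : Fact (Nat.Prime 2) := ⟨Nat.prime_two⟩
  obtain ⟨m, hm⟩ := IsPGroup.iff_card.1 h2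
  have hcard : Nat.card (MulAut Y) = Nat.totient (Nat.card Y) := IsCyclic.card_mulAut Y
  rcases Nat.eq_zero_or_pos m with h0 | h0
  · apply IsPGroup.of_card (n := 0)
    rw [hcard, hm, h0, pow_zero, Nat.totient_one]
  · apply IsPGroup.of_card (n := m - 1)
    rw [hcard, hm, Nat.totient_prime_pow Nat.prime_two h0]
    simp

end Cfsg.Agent.Helper17.MB
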