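import Mathlib
import Cfsg.Agent.Lib.MB.MBDefs

/-! S4409 piece MB-QUATAUT (helper17 design; see plans/S4409_plan.md). -/

set_option autoImplicit false

namespace Cfsg.Agent.Helper17.MB

variable {S : Type*} [Group S]

/-- generalized quaternion 2-groups: cyclic (n = 1), `Q8` (n = 2), or `Aut` is a 2-group. -/
theorem quaternion_cases {Y : Type*} [Group Y] [Finite Y] (h2 : IsPGroup 2 Y) (n : ℕ)
    (e : Y ≃* QuaternionGroup n) : IsCyclic Y ∨ n = 2 ∨ IsPGroup 2 (MulAut Y) := by
  -- `n ≠ 0`
  have hn0 : n ≠ 0 := by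
    rintro rfl
    have h1 : orderOf (QuaternionGroup.a 1 : QuaternionGroup 0) = 2 * 0 :=
      QuaternionGroup.orderOf_a_one
    have h2' : orderOf (e.symm (QuaternionGroup.a 1)) = 0 := by
      rw [MulEquiv.orderOf_eq]; simp [h1]
    exact (orderOf_pos (e.symm (QuaternionGroup.a 1))).ne' h2'
  have : NeZero n := ⟨hn0⟩
  have hcard : Nat.card Y = 4 * n := by
    rw [Nat.card_congr e.toEquiv, Nat.card_eq_fintype_card, QuaternionGroup.card]
  by_cases hn1 : n = 1
  · subst hn1
    left
    have := QuaternionGroup.quaternionGroup_one_isCyclic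
    exact isCyclic_of_surjective e.symm e.symm.surjective
  by_cases hn2 : n = 2
  · exact Or.inr (Or.inl hn2)
  right; right
  have hn3 : 3 ≤ n := by omega
  obtain ⟨m, hm⟩ := h2.exists_card_eq
  -- `4 * n = 2 ^ m`
  have h4n : 4 * n = 2 ^ m := by rw [← hcard, hm]
  have hm3 : 3 ≤ m := by
    by_contra hlt
    have hlt' : m ≤ 2 := by omega
    have : 2 ^ m ≤ 2 ^ 2 := Nat.pow_le_pow_right (by norm_num) (by omega)
    omega
  obtain ⟨j, rfl⟩ : ∃ j, m = j + 2 := ⟨m - 2, by omega⟩
  have h2n : 2 * n = 2 ^ (j + 1) := by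
    have : 4 * n = 2 * 2 ^ (j + 1) := by rw [h4n]; ring
    omega
  have hj : 2 ≤ j := by
    by_contra hlt
    have hlt' : j ≤ 1 := by omega
    have : 2 ^ (j + 1) ≤ 2 ^ 2 := Nat.pow_le_pow_right (by norm_num) (by omega)
    omega
  -- the cyclic subgroup of index two
  set x : Y := e.symm (QuaternionGroup.a 1) with hx
  have hxord : orderOf x = 2 ^ (j + 1) := by
    rw [hx, MulEquiv.orderOf_eq, QuaternionGroup.orderOf_a_one, h2n]
  refine Cfsg.Agent.Helper16.aut_isPGroup_of_cyclic_index_two (j + 1) (by omega) ?_ x hxord ?_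
  · rw [hm]
  · intro g hg
    have hge : g = e.symm (e g) := (e.symm_apply_apply g).symm
    rcases hq : e g with i | i
    · exfalso
      apply hg
      rw [hge, hq]
      have hi : (QuaternionGroup.a i : QuaternionGroup n) = QuaternionGroup.a 1 ^ (i.val) := by
        rw [QuaternionGroup.a_one_pow]
        have : NeZero (2 * n) := ⟨by omega⟩
        rw [ZMod.natCast_zmod_val]
      rw [hi, map_pow]
      exact Subgroup.pow_mem _ (Subgroup.mem_zpowers _) _
    · have h4 : orderOf g = 4 := by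
        rw [hge, hq, MulEquiv.orderOf_eq, QuaternionGroup.orderOf_xa]
      rw [h4]
      have : 2 ^ 2 < 2 ^ (j + 1) := Nat.pow_lt_pow_right (by norm_num) (by omega)
      simpa using this

end Cfsg.Agent.Helper17.MB
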