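import Mathlib
import Cfsg.Agent.Lib.MB.MBDefs

/-! S4409 piece MB-UNIQINV (helper17 design; see plans/S4409_plan.md).  Proved by helper27. -/

set_option autoImplicit false
set_option linter.style.haveILetI false

namespace Cfsg.Agent.Helper17.MB

variable {S : Type*} [Group S]

/-- a subgroup of order two is generated by any of its nontrivial elements. -/
theorem mb_uniqinv_eq_zpowers {Y : Type*} [Group Y] [Finite Y] (H : Subgroup Y)
    (hH : Nat.card ↥H = 2) : ∃ t : Y, t ≠ 1 ∧ t ^ 2 = 1 ∧ H = Subgroup.zpowers t := by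
  have hnt : Nontrivial ↥H := by
    rw [← Finite.one_lt_card_iff_nontrivial, hH]
    norm_num
  obtain ⟨t, ht⟩ := exists_ne (1 : ↥H)
  have ht1 : (t : Y) ≠ 1 := fun h => ht (Subtype.ext h)
  have ht2 : (t : Y) ^ 2 = 1 := by
    have h := pow_card_eq_one' (G := ↥H) (x := t)
    rw [hH] at h
    exact_mod_cast congrArg Subtype.val h
  refine ⟨t, ht1, ht2, ?_⟩
  have hle : Subgroup.zpowers (t : Y) ≤ H := by
    rw [Subgroup.zpowers_le]
    exact t.2
  have hord : orderOf (t : Y) = 2 := by
    have hd : orderOf (t : Y) ∣ 2 := orderOf_dvd_of_pow_eq_one ht2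
    rcases (Nat.prime_two.eq_one_or_self_of_dvd _ hd) with h | h
    · exact absurd (orderOf_eq_one_iff.mp h) ht1
    · exact h
  symm
  apply Subgroup.eq_of_le_of_card_ge hle
  rw [hH, Nat.card_zpowers, hord]

/-- a 2-group all of whose abelian subgroups are cyclic has a unique subgroup of order 2. -/
theorem unique_card_two {Y : Type*} [Group Y] [Finite Y] (h2 : IsPGroup 2 Y)
    (hcyc : ∀ A : Subgroup Y, IsMulCommutative ↥A → IsCyclic ↥A) :
    ∀ H K : Subgroup Y, Nat.card ↥H = 2 → Nat.card ↥K = 2 → H = K := by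
  classical
  intro H K hH hK
  haveI : Fact (Nat.Prime 2) := ⟨Nat.prime_two⟩
  -- `Y` is nontrivial
  obtain ⟨t0, ht0, -, -⟩ := mb_uniqinv_eq_zpowers H hH
  haveI : Nontrivial Y := ⟨⟨t0, 1, ht0⟩⟩
  -- a central involution
  have hcn : Nontrivial ↥(Subgroup.center Y) := h2.center_nontrivial
  have hdvd : 2 ∣ Nat.card ↥(Subgroup.center Y) := by
    rcases (h2.to_subgroup (Subgroup.center Y)).card_eq_or_dvd with h | h
    · exact absurd h (Finite.one_lt_card_iff_nontrivial.mpr hcn).ne'
    · exact h
  obtain ⟨z, hz⟩ := exists_prime_orderOf_dvd_card' 2 hdvd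
  have hzc : ∀ y : Y, y * (z : Y) = (z : Y) * y := fun y => Subgroup.mem_center_iff.mp z.2 y
  have hz1 : (z : Y) ≠ 1 := by
    intro h
    have : orderOf (z : Y) = 1 := by rw [h, orderOf_one]
    rw [Subgroup.orderOf_coe, hz] at this
    norm_num at this
  have hz2 : (z : Y) ^ 2 = 1 := by
    rw [← hz, ← Subgroup.orderOf_coe]
    exact pow_orderOf_eq_one _
  -- every subgroup of order two is `⟨z⟩`
  have key : ∀ L : Subgroup Y, Nat.card ↥L = 2 → L = Subgroup.zpowers (z : Y) := by
    intro L hL
    obtain ⟨t, ht1, ht2, hLt⟩ := mb_uniqinv_eq_zpowers L hL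
    by_cases htz : t = (z : Y)
    · rw [hLt, htz]
    exfalso
    set A : Subgroup Y := Subgroup.closure {(z : Y), t} with hA
    have hcomm : IsMulCommutative ↥A := by
      apply Subgroup.isMulCommutative_closure
      intro x hx y hy
      simp only [Set.mem_insert_iff, Set.mem_singleton_iff] at hx hy
      rcases hx with rfl | rfl <;> rcases hy with rfl | rfl
      · rfl
      · exact (hzc _).symm
      · exact hzc _
      · rfl
    haveI : IsCyclic ↥A := hcyc A hcomm
    letI : Fintype ↥A := Fintype.ofFinite _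
    have hzA : (z : Y) ∈ A := Subgroup.subset_closure (by simp)
    have htA : t ∈ A := Subgroup.subset_closure (by simp)
    have hle := IsCyclic.card_pow_eq_one_le (α := ↥A) (n := 2) (by norm_num)
    have hsub : ({1, ⟨(z : Y), hzA⟩, ⟨t, htA⟩} : Finset ↥A) ⊆
        Finset.univ.filter (fun a : ↥A => a ^ 2 = 1) := by
      intro a ha
      simp only [Finset.mem_insert, Finset.mem_singleton] at ha
      rw [Finset.mem_filter]
      refine ⟨Finset.mem_univ _, ?_⟩
      rcases ha with rfl | rfl | rfl
      · exact one_pow 2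
      · exact Subtype.ext hz2
      · exact Subtype.ext ht2
    have hcard : ({1, ⟨(z : Y), hzA⟩, ⟨t, htA⟩} : Finset ↥A).card = 3 := by
      rw [Finset.card_eq_three]
      refine ⟨1, ⟨(z : Y), hzA⟩, ⟨t, htA⟩, ?_, ?_, ?_, rfl⟩
      · intro h
        exact hz1 (congrArg Subtype.val h).symm
      · intro h
        exact ht1 (congrArg Subtype.val h).symm
      · intro h
        exact htz (congrArg Subtype.val h).symm
    have := Finset.card_le_card hsub
    omega
  rw [key H hH, key K hK]

end Cfsg.Agent.Helper17.MB
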