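import Mathlib
import Cfsg.Agent.Lib.MB.MBDefs
import Cfsg.Agent.S0016
import Cfsg.Agent.S0519
import Cfsg.Agent.S3116
import Cfsg.Agent.Lib.MB.MBCYCAUT
import Cfsg.Agent.Lib.MB.MBUNIQINV
import Cfsg.Agent.Lib.MB.MBQUATAUT

/-! S4409 piece MB-NONORMAL (helper17 design; see plans/S4409_plan.md), implemented by helper11.
Assembly from S0016, S0519, S3116, CYCAUT, UNIQINV, QUATAUT. -/

set_option autoImplicit false

namespace Cfsg.Agent.Helper17.MB

variable {S : Type*} [Group S]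

/-- 2-groups in which every normal abelian subgroup is cyclic. -/
theorem aut_or_q8_of_normal_abelian_cyclic {Y : Type*} [Group Y] [Finite Y] (h2 : IsPGroup 2 Y)
    (hn : ∀ A : Subgroup Y, A.Normal → IsMulCommutative ↥A → IsCyclic ↥A) :
    IsPGroup 2 (MulAut Y) ∨ Nonempty (Y ≃* QuaternionGroup 2) := by
  have hquat : ∀ n : ℕ, Nonempty (Y ≃* QuaternionGroup n) →
      IsPGroup 2 (MulAut Y) ∨ Nonempty (Y ≃* QuaternionGroup 2) := by
    rintro n ⟨e⟩
    rcases quaternion_cases h2 n e with hc | hn2 | ha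
    · exact Or.inl (aut_isPGroup_of_isCyclic hc h2)
    · subst hn2
      exact Or.inr ⟨e⟩
    · exact Or.inl ha
  by_cases hm : ∃ B : Subgroup Y, IsMulCommutative ↥B ∧ ¬ IsCyclic ↥B
  · obtain ⟨-, hcases⟩ := Cfsg.Agent.S0519.result 2 h2 hn hm
    rcases hcases with ⟨n, hq⟩ | ⟨n, hn8, ⟨e⟩⟩ | hqd
    · exact hquat n hq
    · exact Or.inl (Cfsg.Agent.S3116.result h2 (Or.inl ⟨n, by omega, ⟨e⟩⟩))
    · exact Or.inl (Cfsg.Agent.S3116.result h2 (Or.inr hqd))
  · have hcyc : ∀ A : Subgroup Y, IsMulCommutative ↥A → IsCyclic ↥A := by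
      intro A hA
      by_contra hnc
      exact hm ⟨A, hA, hnc⟩
    have huniq := unique_card_two h2 hcyc
    rcases Cfsg.Agent.S0016.result 2 h2 huniq with hc | ⟨-, n, hq⟩
    · exact Or.inl (aut_isPGroup_of_isCyclic hc h2)
    · exact hquat (2 ^ n) hq

end Cfsg.Agent.Helper17.MB
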