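import Mathlib
import Cfsg.Agent.Lib.MB.MBDefs
import Cfsg.Agent.Lib.MB.MBNONORMAL
import Cfsg.Agent.Lib.MB.MBCASE2

/-! S4409 assembly MB-LEMMAC (helper17; see plans/S4409_plan.md). -/

set_option autoImplicit false

namespace Cfsg.Agent.Helper17.MB

variable {S : Type*} [Group S]

/-- **Lemma C**: classification of good 2-groups up to what we need. -/
theorem lemma_C {Y : Type*} [Group Y] [Finite Y] (h2 : IsPGroup 2 Y) (hg : GoodT Y) :
    IsPGroup 2 (MulAut Y) ∨ (Nat.card Y = 4 ∧ ¬ IsCyclic Y) ∨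
      Nonempty (Y ≃* QuaternionGroup 2) := by
  by_cases hn : ∀ A : Subgroup Y, A.Normal → IsMulCommutative ↥A → IsCyclic ↥A
  · rcases aut_or_q8_of_normal_abelian_cyclic h2 hn with h | h
    · exact Or.inl h
    · exact Or.inr (Or.inr h)
  · simp only [not_forall] at hn
    obtain ⟨N, hN, hab, hnc⟩ := hn
    rcases aut_or_e4_of_normal_abelian_noncyclic h2 hg N hN hab hnc with h | h
    · exact Or.inl h
    · exact Or.inr (Or.inl h)

end Cfsg.Agent.Helper17.MB
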