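import Mathlib
import Cfsg.Agent.Lib.MB.MBDefs
import Cfsg.Agent.Lib.MB.MBLEMMAC
import Cfsg.Agent.Lib.MB.MBGOODT
import Cfsg.Agent.Lib.MB.MBAUTTRIV

/-! S4409 assembly MB-LEMMAG (helper17; see plans/S4409_plan.md). -/

set_option autoImplicit false

namespace Cfsg.Agent.Helper17.MB

variable {S : Type*} [Group S]

/-- **Lemma G**: a good 2-group `Y = [Y,K]` with `K` of odd order is `1`, `E4` or `Q8`. -/
theorem lemma_G [Finite S] (Y K : Subgroup S) (h2 : IsPGroup 2 ↥Y)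
    (hK : K ≤ Subgroup.normalizer (Y : Set S)) (hodd : (Nat.card ↥K).Coprime 2)
    (hg : Good Y) (hYK : ⁅Y, K⁆ = Y) : Y = ⊥ ∨ IsE4 Y ∨ IsQ8 Y := by
  rcases lemma_C h2 ((good_iff_goodT Y).1 hg) with h | h | h
  · left
    have h1 := le_centralizer_of_aut_isPGroup Y K hK hodd h
    have h3 : ⁅Y, K⁆ = ⊥ := by
      rw [Subgroup.commutator_comm]
      exact Subgroup.commutator_eq_bot_iff_le_centralizer.mpr h1
    rw [← hYK, h3]
  · exact Or.inr (Or.inl h)
  · exact Or.inr (Or.inr h)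

end Cfsg.Agent.Helper17.MB
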