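import Mathlib
import Cfsg.Agent.Lib.MB.MBDefs

/-! S4409 piece MB-Q8STRUCT (helper17 design; see plans/S4409_plan.md): the structure of `Q8` that is
used (finite check in `QuaternionGroup 2`, then transport).  (helper9) -/

set_option autoImplicit false

namespace Cfsg.Agent.Helper17.MB

variable {S : Type*} [Group S]

/-- the finite check in `QuaternionGroup 2`. -/
theorem mb_q8struct_fin :
    (QuaternionGroup.a 1 : QuaternionGroup 2) ^ 2 = QuaternionGroup.a 2 ∧
    (QuaternionGroup.a 2 : QuaternionGroup 2) ^ 2 = 1 ∧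
    (QuaternionGroup.a 2 : QuaternionGroup 2) ≠ 1 ∧
    (QuaternionGroup.a 1 : QuaternionGroup 2) ^ 4 = 1 ∧
    (∀ y : QuaternionGroup 2, y * QuaternionGroup.a 2 = QuaternionGroup.a 2 * y) ∧
    (∀ c : QuaternionGroup 2, (∀ y, c * y = y * c) → c = 1 ∨ c = QuaternionGroup.a 2) ∧
    (∀ a : QuaternionGroup 2, a ^ 2 = 1 → a = 1 ∨ a = QuaternionGroup.a 2) := by decide

/-- the structure of `Q8` that we use. -/
theorem exists_of_isQ8 (Y : Subgroup S) (h : IsQ8 Y) :
    ∃ z i : S, z ∈ Y ∧ i ∈ Y ∧ orderOf z = 2 ∧ orderOf i = 4 ∧ i ^ 2 = z ∧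
      (∀ y ∈ Y, y * z = z * y) ∧
      (∀ c ∈ Y, (∀ y ∈ Y, c * y = y * c) → c = 1 ∨ c = z) ∧
      (∀ a ∈ Y, a ^ 2 = 1 → a = 1 ∨ a = z) := by
  obtain ⟨e⟩ := h
  obtain ⟨f1, f2, f3, f4, f5, f6, f7⟩ := mb_q8struct_fin
  -- orders in `QuaternionGroup 2`
  have hoz : orderOf (QuaternionGroup.a 2 : QuaternionGroup 2) = 2 :=
    orderOf_eq_prime f2 f3
  have hoi : orderOf (QuaternionGroup.a 1 : QuaternionGroup 2) = 4 := by
    have h1 := orderOf_eq_prime_pow (p := 2) (n := 1) (x := (QuaternionGroup.a 1 : QuaternionGroup 2))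
      (by
        rw [pow_one, f1]
        exact f3)
      (by
        have : (2 : ℕ) ^ (1 + 1) = 4 := by norm_num
        rw [this]
        exact f4)
    rw [h1]; norm_num
  refine ⟨((e.symm (QuaternionGroup.a 2) : ↥Y) : S), ((e.symm (QuaternionGroup.a 1) : ↥Y) : S),
    (e.symm (QuaternionGroup.a 2)).2, (e.symm (QuaternionGroup.a 1)).2, ?_, ?_, ?_, ?_, ?_, ?_⟩
  · rw [Subgroup.orderOf_coe, MulEquiv.orderOf_eq, hoz]
  · rw [Subgroup.orderOf_coe, MulEquiv.orderOf_eq, hoi]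
  · rw [← Subgroup.coe_pow, ← map_pow, f1]
  · intro y hy
    have h1 : e.symm (e ⟨y, hy⟩ * QuaternionGroup.a 2) = e.symm (QuaternionGroup.a 2 * e ⟨y, hy⟩) := by
      rw [f5]
    rw [map_mul, map_mul, MulEquiv.symm_apply_apply] at h1
    have h2 := congrArg Subtype.val h1
    rw [Subgroup.coe_mul, Subgroup.coe_mul] at h2
    exact h2
  · intro c hc hcen
    have h1 : ∀ q : QuaternionGroup 2, e ⟨c, hc⟩ * q = q * e ⟨c, hc⟩ := by
      intro q
      have h2 := hcen ((e.symm q : ↥Y) : S) (e.symm q).2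
      have h3 : (⟨c, hc⟩ : ↥Y) * e.symm q = e.symm q * ⟨c, hc⟩ := Subtype.ext h2
      have h4 := congrArg e h3
      rw [map_mul, map_mul, MulEquiv.apply_symm_apply] at h4
      exact h4
    rcases f6 _ h1 with h2 | h2
    · left
      have h3 : (⟨c, hc⟩ : ↥Y) = 1 := by
        rw [← e.symm_apply_apply ⟨c, hc⟩, h2, map_one]
      exact congrArg Subtype.val h3
    · right
      have h3 : (⟨c, hc⟩ : ↥Y) = e.symm (QuaternionGroup.a 2) := by
        rw [← e.symm_apply_apply ⟨c, hc⟩, h2]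
      exact congrArg Subtype.val h3
  · intro a ha ha2
    have h1 : (e ⟨a, ha⟩) ^ 2 = 1 := by
      rw [← map_pow]
      have h2 : (⟨a, ha⟩ : ↥Y) ^ 2 = 1 := Subtype.ext (by rw [Subgroup.coe_pow]; exact ha2)
      rw [h2, map_one]
    rcases f7 _ h1 with h2 | h2
    · left
      have h3 : (⟨a, ha⟩ : ↥Y) = 1 := by
        rw [← e.symm_apply_apply ⟨a, ha⟩, h2, map_one]
      exact congrArg Subtype.val h3
    · right
      have h3 : (⟨a, ha⟩ : ↥Y) = e.symm (QuaternionGroup.a 2) := by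
        rw [← e.symm_apply_apply ⟨a, ha⟩, h2]
      exact congrArg Subtype.val h3

end Cfsg.Agent.Helper17.MB
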