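import Mathlib
import Cfsg.Agent.Lib.MB.MBDefs
import Cfsg.Agent.Lib.MB.MBQ8STRUCT

/-! S4409 piece MB-Q8NOE4 (helper17 design; see plans/S4409_plan.md): `Q8` has no four-subgroup.
(helper9) -/

set_option autoImplicit false

namespace Cfsg.Agent.Helper17.MB

variable {S : Type*} [Group S]

theorem not_isE4_of_le_isQ8 (Y : Subgroup S) (h : IsQ8 Y) (B : Subgroup S) (hBY : B ≤ Y) :
    ¬ IsE4 B := by
  rintro ⟨hB4, hBnc⟩
  obtain ⟨z, i, _, _, hz2, _, _, _, _, hinv⟩ := exists_of_isQ8 Y h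
  have hfin : Finite ↥B := Nat.finite_of_card_ne_zero (by rw [hB4]; norm_num)
  -- every element of `B` squares to one
  have hsq : ∀ b ∈ B, b ^ 2 = 1 := by
    intro b hb
    have hdvd : orderOf (⟨b, hb⟩ : ↥B) ∣ 2 ^ 2 := by
      have h1 := orderOf_dvd_natCard (⟨b, hb⟩ : ↥B)
      rw [hB4] at h1
      exact h1
    obtain ⟨m, hm, hom⟩ := (Nat.dvd_prime_pow Nat.prime_two).1 hdvd
    have hm2 : m ≠ 2 := by
      intro h2
      apply hBnc
      apply isCyclic_of_orderOf_eq_card (⟨b, hb⟩ : ↥B)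
      rw [hom, h2, hB4]; norm_num
    have hd2 : orderOf (⟨b, hb⟩ : ↥B) ∣ 2 := by
      rw [hom]
      have hm1 : m ≤ 1 := by omega
      exact pow_dvd_pow 2 hm1
    have h3 : (⟨b, hb⟩ : ↥B) ^ 2 = 1 := orderOf_dvd_iff_pow_eq_one.1 hd2
    have h4 := congrArg Subtype.val h3
    rw [Subgroup.coe_pow, Subgroup.coe_one] at h4
    exact h4
  -- hence `B ≤ ⟨z⟩`
  have hle : B ≤ Subgroup.zpowers z := by
    intro b hb
    rcases hinv b (hBY hb) (hsq b hb) with h1 | h1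
    · rw [h1]; exact Subgroup.one_mem _
    · rw [h1]; exact Subgroup.mem_zpowers z
  have hdvd := Subgroup.card_dvd_of_le hle
  rw [hB4, Nat.card_zpowers, hz2] at hdvd
  omega

end Cfsg.Agent.Helper17.MB
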