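import Mathlib
import Cfsg.Agent.Lib.MB.MBDefs
import Cfsg.Agent.Lib.MB.MBCOMMNORM
import Cfsg.Agent.Lib.MB.MBCOMMCOMM
import Cfsg.Agent.Lib.MB.MBLEMMAG
import Cfsg.Agent.Lib.MB.MBQ8BASIC
import Cfsg.Agent.Lib.MB.MBQ8NOE4

/-! S4409 piece MB-Q8CENT (helper17 design; see plans/S4409_plan.md).  STUB: overwrite this file,
keeping the statement(s), namespace and imports (you may ADD imports of non-MB library files). -/

set_option autoImplicit false

namespace Cfsg.Agent.Helper17.MB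

variable {S : Type*} [Group S]


theorem centralizer_le_centralizer_q8 [Finite S] [Group.IsSolvable S] (P K : Subgroup S)
    (h2 : IsPGroup 2 ↥P) (hK : K ≤ Subgroup.normalizer (P : Set S))
    (hodd : (Nat.card ↥K).Coprime 2) (hQ : IsQ8 ⁅P, K⁆) :
    P ⊓ Subgroup.centralizer (K : Set S) ≤
      Subgroup.centralizer ((⁅P, K⁆ : Subgroup S) : Set S) := by
  obtain ⟨hLP, hPL, hKL⟩ := commutator_facts P K hK
  obtain ⟨n, hn⟩ := h2.exists_card_eq
  have hcopP : (Nat.card ↥P).Coprime (Nat.card ↥K) := by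
    rw [hn]; exact Nat.Coprime.pow_left n hodd.symm
  have hLL : ⁅⁅P, K⁆, K⁆ = ⁅P, K⁆ := commutator_commutator_eq P K hK hcopP
  set L := ⁅P, K⁆ with hL
  set C := P ⊓ Subgroup.centralizer (K : Set S) with hC
  have hCP : C ≤ P := inf_le_left
  have hCK : C ≤ Subgroup.centralizer (K : Set S) := inf_le_right
  have hCL : C ≤ Subgroup.normalizer (L : Set S) := hCP.trans hPL
  obtain ⟨hDL, -, -⟩ := commutator_facts L C hCL
  have hKC : K ≤ Subgroup.normalizer (C : Set S) :=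
    (Subgroup.le_centralizer_iff.mp hCK).trans (Subgroup.centralizer_le_normalizer _)
  have hKD : K ≤ Subgroup.normalizer ((⁅L, C⁆ : Subgroup S) : Set S) :=
    (le_inf hKL hKC).trans
      (Cfsg.Agent.Helper7.normalizer_inf_normalizer_le_normalizer_commutator L C)
  obtain ⟨hD1D, -, hKD1⟩ := commutator_facts ⁅L, C⁆ K hKD
  have hDP : ⁅L, C⁆ ≤ P := hDL.trans hLP
  have hcopD : (Nat.card ↥⁅L, C⁆).Coprime (Nat.card ↥K) :=
    Nat.Coprime.coprime_dvd_left (Subgroup.card_dvd_of_le hDP) hcopP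
  have hcc1 := commutator_commutator_eq ⁅L, C⁆ K hKD hcopD
  have hL8 : Nat.card ↥L = 8 := card_of_isQ8 L hQ
  have hgL : Good L := good_of_card_eight L hL8 (not_comm_of_isQ8 L hQ)
  have hD1L : ⁅⁅L, C⁆, K⁆ ≤ L := hD1D.trans hDL
  rcases lemma_G ⁅⁅L, C⁆, K⁆ K (h2.to_le (hD1L.trans hLP)) hKD1 hodd (good_mono hD1L hgL) hcc1
    with h0 | h4 | h8
  · have h1 : ⁅⁅C, K⁆, L⁆ = ⊥ := by
      have : ⁅C, K⁆ = ⊥ := Subgroup.commutator_eq_bot_iff_le_centralizer.mpr hCK
      rw [this, Subgroup.commutator_bot_left]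
    have h3 : ⁅⁅K, L⁆, C⁆ = ⊥ := Subgroup.commutator_commutator_eq_bot_of_rotate h0 h1
    rw [Subgroup.commutator_comm K L, hLL] at h3
    have h4 : L ≤ Subgroup.centralizer (C : Set S) :=
      Subgroup.commutator_eq_bot_iff_le_centralizer.mp h3
    exact Subgroup.le_centralizer_iff.mp h4
  · exact absurd h4 (not_isE4_of_le_isQ8 L hQ _ hD1L)
  · exfalso
    have h1 : Nat.card ↥⁅⁅L, C⁆, K⁆ = 8 := card_of_isQ8 _ h8
    have h3 : ⁅⁅L, C⁆, K⁆ = L := Subgroup.eq_of_le_of_card_ge hD1L (by rw [h1, hL8])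
    have h5 : ⁅L, C⁆ = L := le_antisymm hDL (by
      calc L = ⁅⁅L, C⁆, K⁆ := h3.symm
        _ ≤ ⁅L, C⁆ := hD1D)
    have hLne : L ≠ ⊥ := by
      intro hb
      rw [hb, Subgroup.card_bot] at hL8
      omega
    have hnilP : Group.IsNilpotent ↥P := h2.isNilpotent
    have hnil : Group.IsNilpotent ↥(L ⊔ C) :=
      Cfsg.Agent.Helper7.isNilpotent_of_le (sup_le hLP hCP) hnilP
    exact Cfsg.Agent.Helper7.commutator_ne_self_of_isNilpotent_sup hnil hLne h5

end Cfsg.Agent.Helper17.MB
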