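import Mathlib
import Cfsg.Agent.Lib.MB.MBDefs
import Cfsg.Agent.Lib.MB.MBQ8CENT
import Cfsg.Agent.Lib.MB.MBFACTOR
import Cfsg.Agent.Lib.MB.MBCOMMNORM
import Cfsg.Agent.Lib.MB.MBQ8STRUCT
import Cfsg.Agent.Lib.MB.MBQ8BASIC

/-! S4409 piece MB-Q8EXT (helper17 design; see plans/S4409_plan.md).  STUB: overwrite this file,
keeping the statement(s), namespace and imports (you may ADD imports of non-MB library files). -/

set_option autoImplicit false

namespace Cfsg.Agent.Helper17.MB

variable {S : Type*} [Group S]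


/-- the subgroup `L ∪ L c⁻¹` when `c` centralizes `L` and `c² ∈ L`. -/
def mb_q8ext_M (L : Subgroup S) (c : S) (hc : ∀ l ∈ L, c * l = l * c) (hc2 : c ^ 2 ∈ L) :
    Subgroup S where
  carrier := {y | y ∈ L ∨ y * c ∈ L}
  one_mem' := Or.inl L.one_mem
  mul_mem' := by
    rintro a b (ha | ha) (hb | hb)
    · exact Or.inl (L.mul_mem ha hb)
    · right
      have : a * b * c = a * (b * c) := by group
      rw [this]; exact L.mul_mem ha hb
    · right
      have : a * b * c = (a * c) * b := by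
        rw [mul_assoc, mul_assoc, hc b hb]
      rw [this]; exact L.mul_mem ha hb
    · left
      have h1 : (c ^ 2)⁻¹ ∈ L := L.inv_mem hc2
      have h2 : c⁻¹ * (b * c) = (b * c) * c⁻¹ := by
        have := hc _ hb
        calc c⁻¹ * (b * c) = c⁻¹ * (b * c) * c * c⁻¹ := by group
          _ = c⁻¹ * (c * (b * c)) * c⁻¹ := by rw [mul_assoc c⁻¹ (b * c) c, ← this]
          _ = (b * c) * c⁻¹ := by group
      have : a * b = (a * c) * ((b * c) * (c ^ 2)⁻¹) := by
        calc a * b = (a * c) * (c⁻¹ * (b * c)) * c⁻¹ := by group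
          _ = (a * c) * ((b * c) * c⁻¹) * c⁻¹ := by rw [h2]
          _ = (a * c) * ((b * c) * (c ^ 2)⁻¹) := by group
      rw [this]
      exact L.mul_mem ha (L.mul_mem hb h1)
  inv_mem' := by
    rintro a (ha | ha)
    · exact Or.inl (L.inv_mem ha)
    · right
      have h1 : (a * c)⁻¹ ∈ L := L.inv_mem ha
      have h2 := hc _ h1
      have : a⁻¹ * c = (a * c)⁻¹ * c ^ 2 := by
        calc a⁻¹ * c = c * (a * c)⁻¹ * c := by group
          _ = (a * c)⁻¹ * c * c := by rw [h2]
          _ = (a * c)⁻¹ * c ^ 2 := by rw [mul_assoc, ← pow_two]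
      rw [this]
      exact L.mul_mem h1 hc2

theorem mb_q8ext_mem (L : Subgroup S) (c : S) (hc : ∀ l ∈ L, c * l = l * c) (hc2 : c ^ 2 ∈ L) :
    ∀ y ∈ L ⊔ Subgroup.zpowers c, y ∈ L ∨ y * c ∈ L := by
  have h1 : L ≤ mb_q8ext_M L c hc hc2 := fun y hy => Or.inl hy
  have h2 : Subgroup.zpowers c ≤ mb_q8ext_M L c hc hc2 := by
    rw [Subgroup.zpowers_le]
    right
    rw [← pow_two]; exact hc2
  intro y hy
  exact (sup_le h1 h2) hy

theorem mb_q8ext_card [Finite S] (L : Subgroup S) (c : S) (hc : ∀ l ∈ L, c * l = l * c)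
    (hc2 : c ^ 2 ∈ L) (hcL : c ∉ L) :
    Nat.card ↥(L ⊔ Subgroup.zpowers c) = 2 * Nat.card ↥L := by
  set Y := L ⊔ Subgroup.zpowers c with hY
  have hLY : L ≤ Y := le_sup_left
  have hcY : c ∈ Y := (le_sup_right : Subgroup.zpowers c ≤ Y) (Subgroup.mem_zpowers c)
  have hidx : (L.subgroupOf Y).index = 2 := by
    rw [Subgroup.index_eq_two_iff]
    refine ⟨⟨c, hcY⟩, fun b => ?_⟩
    have hb := mb_q8ext_mem L c hc hc2 b.1 b.2
    simp only [Subgroup.mem_subgroupOf, Subgroup.coe_mul]
    rcases hb with hb | hb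
    · right
      refine ⟨hb, fun hbc => hcL ?_⟩
      have : c = (b : S)⁻¹ * ((b : S) * c) := by group
      rw [this]; exact L.mul_mem (L.inv_mem hb) hbc
    · left
      refine ⟨hb, fun hb' => hcL ?_⟩
      have : c = (b : S)⁻¹ * ((b : S) * c) := by group
      rw [this]; exact L.mul_mem (L.inv_mem hb') hb
  have h1 := Subgroup.card_mul_index (L.subgroupOf Y)
  rw [hidx] at h1
  have h2 : Nat.card ↥(L.subgroupOf Y) = Nat.card ↥L :=
    Nat.card_congr (Subgroup.subgroupOfEquivOfLe hLY).toEquiv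
  rw [h2] at h1
  omega

theorem mb_q8ext_normalizer_sup (K U V : Subgroup S)
    (hU : K ≤ Subgroup.normalizer (U : Set S)) (hV : K ≤ Subgroup.normalizer (V : Set S)) :
    K ≤ Subgroup.normalizer ((U ⊔ V : Subgroup S) : Set S) := by
  have key : ∀ k ∈ K, ∀ w ∈ U ⊔ V, k * w * k⁻¹ ∈ U ⊔ V := by
    intro k hk w hw
    have hle : U ⊔ V ≤ (U ⊔ V).comap (MulAut.conj k).toMonoidHom := by
      apply sup_le
      · intro u hu
        rw [Subgroup.mem_comap]
        have := (Subgroup.mem_normalizer_iff.mp (hU hk) u).mp hu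
        exact (le_sup_left : U ≤ U ⊔ V) (by simpa using this)
      · intro v hv
        rw [Subgroup.mem_comap]
        have := (Subgroup.mem_normalizer_iff.mp (hV hk) v).mp hv
        exact (le_sup_right : V ≤ U ⊔ V) (by simpa using this)
    have := hle hw
    rw [Subgroup.mem_comap] at this
    simpa using this
  intro k hk
  rw [Subgroup.mem_normalizer_iff]
  intro w
  constructor
  · exact key k hk w
  · intro hw
    have := key k⁻¹ (K.inv_mem hk) _ hw
    have h2 : k⁻¹ * (k * w * k⁻¹) * k⁻¹⁻¹ = w := by group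
    rwa [h2] at this

theorem mb_q8ext_exists_sq [Finite S] (P C L : Subgroup S) (h2 : IsPGroup 2 ↥P) (hCP : C ≤ P)
    (c₀ : S) (hc₀ : c₀ ∈ C) (hc₀L : c₀ ∉ L) : ∃ c ∈ C, c ∉ L ∧ c ^ 2 ∈ L := by
  obtain ⟨m, hm⟩ := h2 ⟨c₀, hCP hc₀⟩
  have hm' : c₀ ^ 2 ^ m = 1 := by
    have := congrArg (fun x : ↥P => (x : S)) hm
    simpa using this
  have hex : ∃ j, c₀ ^ 2 ^ j ∈ L := ⟨m, by rw [hm']; exact L.one_mem⟩
  classical
  set j := Nat.find hex with hj
  have hjspec : c₀ ^ 2 ^ j ∈ L := Nat.find_spec hex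
  have hj0 : j ≠ 0 := by
    intro h0
    rw [h0] at hjspec
    simp at hjspec
    exact hc₀L hjspec
  obtain ⟨i, hi⟩ := Nat.exists_eq_succ_of_ne_zero hj0
  refine ⟨c₀ ^ 2 ^ i, C.pow_mem hc₀ _, ?_, ?_⟩
  · have : i < j := by omega
    exact Nat.find_min hex this
  · have hi' : j = i + 1 := hi
    rw [← pow_mul, ← pow_succ, ← hi']
    exact hjspec

theorem mb_q8ext_comm_of_le_centralizer (Y : Subgroup S)
    (h : Y ≤ Subgroup.centralizer (Y : Set S)) : IsMulCommutative ↥Y := by
  refine ⟨⟨fun a b => ?_⟩⟩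
  apply Subtype.ext
  have := h b.2 a a.2
  simpa using this

theorem exists_bad_of_q8 [Finite S] [Group.IsSolvable S] (P K : Subgroup S)
    (h2 : IsPGroup 2 ↥P) (hK : K ≤ Subgroup.normalizer (P : Set S))
    (hodd : (Nat.card ↥K).Coprime 2) (hQ : IsQ8 ⁅P, K⁆) (hne : ⁅P, K⁆ ≠ P) :
    ∃ Y : Subgroup S, ⁅P, K⁆ ≤ Y ∧ Y ≤ P ∧ K ≤ Subgroup.normalizer (Y : Set S) ∧
      Nat.card ↥Y = 16 ∧ ¬ Good Y := by
  obtain ⟨hLP, hPL, hKL⟩ := commutator_facts P K hK
  obtain ⟨n, hn⟩ := h2.exists_card_eq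
  have hcopP : (Nat.card ↥P).Coprime (Nat.card ↥K) := by
    rw [hn]; exact Nat.Coprime.pow_left n hodd.symm
  have hCcent := centralizer_le_centralizer_q8 P K h2 hK hodd hQ
  have hfac := exists_mul_of_coprime P K hK hcopP
  have hL8 : Nat.card ↥⁅P, K⁆ = 8 := card_of_isQ8 _ hQ
  set L := ⁅P, K⁆ with hL
  set C := P ⊓ Subgroup.centralizer (K : Set S) with hC
  have hCP : C ≤ P := inf_le_left
  have hCK : C ≤ Subgroup.centralizer (K : Set S) := inf_le_right
  -- some element of C outside L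
  have hex : ∃ c₀ ∈ C, c₀ ∉ L := by
    by_contra hcon
    push Not at hcon
    apply hne
    apply le_antisymm hLP
    intro x hx
    obtain ⟨y, hy, c, hc, rfl⟩ := hfac x hx
    exact L.mul_mem hy (hcon c hc)
  obtain ⟨c₀, hc₀, hc₀L⟩ := hex
  obtain ⟨c, hcC, hcL, hc2⟩ := mb_q8ext_exists_sq P C L h2 hCP c₀ hc₀ hc₀L
  have hcc : ∀ l ∈ L, c * l = l * c := by
    intro l hl
    exact (hCcent hcC l hl).symm
  obtain ⟨z, i, hzL, hiL, hz2, hi4, hiz, hzc, hcen, hinv⟩ := exists_of_isQ8 L hQ
  -- c^2 is 1 or z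
  have hc2z : c ^ 2 = 1 ∨ c ^ 2 = z := by
    apply hcen _ hc2
    intro y hy
    have h1 : Commute c y := hcc y hy
    exact h1.pow_left 2
  have hc4 : c ^ 4 = 1 := by
    have : c ^ 4 = (c ^ 2) ^ 2 := by rw [← pow_mul]
    rw [this]
    rcases hc2z with h | h
    · rw [h, one_pow]
    · rw [h, ← hz2, pow_orderOf_eq_one]
  refine ⟨L ⊔ Subgroup.zpowers c, le_sup_left, ?_, ?_, ?_, ?_⟩
  · exact sup_le hLP (by rw [Subgroup.zpowers_le]; exact hCP hcC)
  · apply mb_q8ext_normalizer_sup K L (Subgroup.zpowers c) hKL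
    have h1 : Subgroup.zpowers c ≤ Subgroup.centralizer (K : Set S) := by
      rw [Subgroup.zpowers_le]; exact hCK hcC
    exact (Subgroup.le_centralizer_iff.mp h1).trans (Subgroup.centralizer_le_normalizer _)
  · rw [mb_q8ext_card L c hcc hc2 hcL, hL8]
  · -- the bad subgroup
    rw [not_good_iff]
    have hIL : Subgroup.zpowers i ≤ L := by rw [Subgroup.zpowers_le]; exact hiL
    have hci : ∀ l ∈ Subgroup.zpowers i, c * l = l * c := fun l hl => hcc l (hIL hl)
    have hc2i : c ^ 2 ∈ Subgroup.zpowers i := by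
      rcases hc2z with h | h
      · rw [h]; exact Subgroup.one_mem _
      · rw [h, ← hiz]; exact Subgroup.pow_mem _ (Subgroup.mem_zpowers i) 2
    have hcI : c ∉ Subgroup.zpowers i := fun h => hcL (hIL h)
    set A := Subgroup.zpowers i ⊔ Subgroup.zpowers c with hA
    have hA8 : Nat.card ↥A = 8 := by
      rw [mb_q8ext_card (Subgroup.zpowers i) c hci hc2i hcI, Nat.card_zpowers, hi4]
    have hAcent : A ≤ Subgroup.centralizer (A : Set S) := by
      have hic : i * c = c * i := (hcc i hiL).symm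
      have h1 : A ≤ Subgroup.centralizer ({i, c} : Set S) := by
        apply sup_le
        · rw [Subgroup.zpowers_le, Subgroup.mem_centralizer_iff]
          intro x hx
          rcases hx with rfl | rfl
          · rfl
          · exact hic.symm
        · rw [Subgroup.zpowers_le, Subgroup.mem_centralizer_iff]
          intro x hx
          rcases hx with rfl | rfl
          · exact hic
          · rfl
      have h2 : ({i, c} : Set S) ⊆ Subgroup.centralizer (A : Set S) := by
        intro x hx a ha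
        have := h1 ha x hx
        exact this.symm
      have h3 : A ≤ Subgroup.centralizer (A : Set S) := by
        apply sup_le
        · rw [Subgroup.zpowers_le]; exact h2 (by simp)
        · rw [Subgroup.zpowers_le]; exact h2 (by simp)
      exact h3
    have hAcomm : IsMulCommutative ↥A := mb_q8ext_comm_of_le_centralizer A hAcent
    refine ⟨A, ?_, hAcomm, ?_, hA8⟩
    · exact sup_le (hIL.trans le_sup_left) le_sup_right
    · -- not cyclic: exponent divides 4
      intro hcyc
      have hexp : ∀ a : ↥A, a ^ 4 = 1 := by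
        intro a
        have hmem := mb_q8ext_mem (Subgroup.zpowers i) c hci hc2i a.1 a.2
        have hi4' : i ^ 4 = 1 := by rw [← hi4, pow_orderOf_eq_one]
        have hpow : ∀ x ∈ Subgroup.zpowers i, x ^ 4 = 1 := by
          intro x hx
          obtain ⟨k, rfl⟩ := Subgroup.mem_zpowers_iff.mp hx
          rw [← zpow_natCast, ← zpow_mul, mul_comm, zpow_mul, zpow_natCast, hi4', one_zpow]
        apply Subtype.ext
        rw [Subgroup.coe_pow, Subgroup.coe_one]
        rcases hmem with h | h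
        · exact hpow _ h
        · have h1 := hpow _ h
          have hcomm : Commute (a : S) c := by
            have := hAcent a.2 c ((le_sup_right : Subgroup.zpowers c ≤ A) (Subgroup.mem_zpowers c))
            exact this.symm
          rw [hcomm.mul_pow, hc4, mul_one] at h1
          exact h1
      have h1 : Monoid.exponent ↥A ∣ 4 := Monoid.exponent_dvd_of_forall_pow_eq_one hexp
      have h2 : Monoid.exponent ↥A = Nat.card ↥A := IsCyclic.exponent_eq_card
      rw [h2, hA8] at h1
      omega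

end Cfsg.Agent.Helper17.MB
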