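import Mathlib
import Cfsg.Agent.Lib.MB.MBDefs
import Cfsg.Agent.Lib.MB.MBCTXBASIC
import Cfsg.Agent.Lib.MB.MBQ8CENT
import Cfsg.Agent.Lib.MB.MBQ8EXT
import Cfsg.Agent.Lib.MB.MBFACTOR
import Cfsg.Agent.Lib.MB.MBCOMMNORM
import Cfsg.Agent.Lib.MB.MBQ8BASIC

/-! S4409 piece MB-A8 (helper17 design; see plans/S4409_plan.md).  Proved by helper1 from the
pieces CTXBASIC, Q8BASIC, Q8EXT, FACTOR, Q8CENT. -/

set_option autoImplicit false

namespace Cfsg.Agent.Helper17.MB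

variable {S : Type*} [Group S]

theorem case_A8 [Finite S] [Group.IsSolvable S] {X H : Subgroup S} (h : Ctx X H)
    (h8 : IsQ8 ⁅X, H⁆) :
    ∃ (X₀ : Subgroup S) (k : ℕ), X₀ ≤ X ∧ X₀.relIndex X = 2 ∧
      Nonempty (↥X₀ ≃* QuaternionGroup (2 ^ (k + 1))) ∧
      X₀ ⊔ (X ⊓ Subgroup.centralizer (X₀ : Set S)) = X := by
  obtain ⟨hHN, hcop, -, hle, -, hY⟩ := ctx_facts h
  -- `[X,H] ≠ X`, else `X` would be good
  have hne : ⁅X, H⁆ ≠ X := by
    intro heq
    have hQX : IsQ8 X := by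
      have h8' := h8
      rw [heq] at h8'
      exact h8'
    exact h.bad (good_of_card_eight X (card_of_isQ8 X hQX) (not_comm_of_isQ8 X hQX))
  -- the bad `H`-invariant subgroup of order 16 is `X`
  obtain ⟨Y, -, hYX, hHY, hY16, hYbad⟩ := exists_bad_of_q8 X H h.two hHN h.odd h8 hne
  have hYeq : Y = X := hY Y hYX hHY hYbad
  have hX16 : Nat.card ↥X = 16 := by rw [← hYeq]; exact hY16
  have hL8 : Nat.card ↥(⁅X, H⁆ : Subgroup S) = 8 := card_of_isQ8 _ h8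
  refine ⟨⁅X, H⁆, 0, hle, ?_, ?_, ?_⟩
  · have h1 := Subgroup.relIndex_mul_relIndex (⊥ : Subgroup S) ⁅X, H⁆ X bot_le hle
    rw [Subgroup.relIndex_bot_left, Subgroup.relIndex_bot_left, hL8, hX16] at h1
    omega
  · have e : (2 : ℕ) ^ (0 + 1) = 2 := by norm_num
    rw [e]
    exact h8
  · apply le_antisymm
    · exact sup_le hle inf_le_left
    · intro x hx
      obtain ⟨y, hy, c, hc, rfl⟩ := exists_mul_of_coprime X H hHN hcop x hx
      have hc' : c ∈ Subgroup.centralizer ((⁅X, H⁆ : Subgroup S) : Set S) :=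
        centralizer_le_centralizer_q8 X H h.two hHN h.odd h8 hc
      exact Subgroup.mul_mem_sup hy ⟨hc.1, hc'⟩

end Cfsg.Agent.Helper17.MB
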