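import Mathlib
import Cfsg.Agent.Lib.MB.MBDefs
import Cfsg.Agent.Lib.MB.MBCOMMNORM

/-! S4409 piece MB-ABFIX (helper17 design; see plans/S4409_plan.md).  Proved by helper1:
the norm map `ν(x) = ∏_{k ∈ K} k x k⁻¹` on the abelian group `P` kills `[P,K]` and is the
`|K|`-th power map on `C_P(K)`. -/

set_option autoImplicit false

namespace Cfsg.Agent.Helper17.MB

variable {S : Type*} [Group S]

/-- conjugation by `k ∈ K` on `P` as an endomorphism of `P`. -/
def mb_abfix_conj (P K : Subgroup S) (hK : K ≤ Subgroup.normalizer (P : Set S)) (k : K) :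
    ↥P →* ↥P where
  toFun x := ⟨(k : S) * x * (k : S)⁻¹, ((Subgroup.mem_normalizer_iff.mp (hK k.2)) x).mp x.2⟩
  map_one' := by ext; simp
  map_mul' x y := by ext; simp [mul_assoc]

theorem mb_abfix_conj_coe (P K : Subgroup S) (hK : K ≤ Subgroup.normalizer (P : Set S)) (k : K)
    (x : P) : ((mb_abfix_conj P K hK k x : P) : S) = (k : S) * x * (k : S)⁻¹ := rfl

/-- coprime action on an abelian group: `[P,K] ∩ C(K) = 1`. -/
theorem commutator_inf_centralizer_eq_bot [Finite S] (P K : Subgroup S)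
    (hK : K ≤ Subgroup.normalizer (P : Set S))
    (hcop : (Nat.card ↥P).Coprime (Nat.card ↥K))
    (hab : ∀ a ∈ P, ∀ b ∈ P, a * b = b * a) :
    ⁅P, K⁆ ⊓ Subgroup.centralizer (K : Set S) = ⊥ := by
  classical
  have : Fintype K := Fintype.ofFinite K
  let _inst : CommGroup ↥P :=
    { (inferInstance : Group ↥P) with
      mul_comm := fun a b => Subtype.ext (hab a a.2 b b.2) }
  set ν : ↥P → ↥P := fun x => ∏ k : K, mb_abfix_conj P K hK k x with hν
  have hνmul : ∀ x y, ν (x * y) = ν x * ν y := by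
    intro x y
    simp only [hν, map_mul, Finset.prod_mul_distrib]
  have hνone : ν 1 = 1 := by
    simp only [hν, map_one, Finset.prod_const_one]
  have hνconj : ∀ (k : K) (x : P), ν (mb_abfix_conj P K hK k x) = ν x := by
    intro k x
    simp only [hν]
    refine Fintype.prod_equiv (Equiv.mulRight k) _ _ (fun k' => ?_)
    apply Subtype.ext
    simp only [mb_abfix_conj_coe, Equiv.coe_mulRight, Subgroup.coe_mul, mul_inv_rev, mul_assoc]
  let νh : ↥P →* ↥P := MonoidHom.mk' ν hνmul
  have hker : ⁅P, K⁆ ≤ (MonoidHom.ker νh).map P.subtype := by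
    rw [Subgroup.commutator_le]
    intro p hp k hk
    refine ⟨⟨p, hp⟩ * mb_abfix_conj P K hK ⟨k, hk⟩ (⟨p, hp⟩⁻¹), ?_, ?_⟩
    · rw [SetLike.mem_coe, MonoidHom.mem_ker]
      show ν _ = 1
      rw [hνmul, hνconj, ← hνmul, mul_inv_cancel, hνone]
    · simp only [Subgroup.subtype_apply, Subgroup.coe_mul, mb_abfix_conj_coe, Subgroup.coe_inv,
        commutatorElement_def, mul_assoc]
  rw [eq_bot_iff]
  rintro y ⟨hy1, hy2⟩
  obtain ⟨y', hy'ker, rfl⟩ := hker hy1
  have hfix : ∀ k : K, mb_abfix_conj P K hK k y' = y' := by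
    intro k
    apply Subtype.ext
    rw [mb_abfix_conj_coe]
    have := (Subgroup.mem_centralizer_iff.mp hy2) k k.2
    simp only [Subgroup.subtype_apply] at this
    rw [this, mul_inv_cancel_right]
  have h1 : y' ^ Nat.card K = 1 := by
    have h : ν y' = y' ^ Nat.card K := by
      simp only [hν, hfix, Finset.prod_const, Finset.card_univ, Nat.card_eq_fintype_card]
    rw [← h]
    exact hy'ker
  have h2 : y' ^ Nat.card P = 1 := pow_card_eq_one'
  have h3 : y' = 1 := by
    have hd1 := orderOf_dvd_of_pow_eq_one h1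
    have hd2 := orderOf_dvd_of_pow_eq_one h2
    have h4 := Nat.dvd_gcd hd2 hd1
    rw [hcop] at h4
    exact orderOf_eq_one_iff.mp (Nat.dvd_one.mp h4)
  rw [h3]
  simp

end Cfsg.Agent.Helper17.MB
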