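import Mathlib
import Cfsg.Agent.Lib.MB.MBDefs

/-! S4409 piece MB-BNORMAL (helper17 design; see plans/S4409_plan.md).  Proved by helper28. -/

set_option autoImplicit false

namespace Cfsg.Agent.Helper17.MB

variable {S : Type*} [Group S]

/-- characteristic subgroups of a normal subgroup. -/
theorem char_normal (X : Subgroup S) [X.Normal] :
    (PhiS X).Normal ∧ (ZS X).Normal ∧ (⁅X, X⁆).Normal ∧ PhiS X ≤ X ∧ ZS X ≤ X ∧ ⁅X, X⁆ ≤ X := by
  refine ⟨?_, ?_, ?_, ?_, ?_, ?_⟩
  · unfold PhiS
    exact ConjAct.normal_of_characteristic_of_normal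
  · unfold ZS
    infer_instance
  · exact Subgroup.commutator_normal X X
  · unfold PhiS
    exact Subgroup.map_subtype_le _
  · exact inf_le_left
  · exact Subgroup.commutator_le_right X X

end Cfsg.Agent.Helper17.MB
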