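import Mathlib
import Cfsg.Agent.Lib.MB.MBDefs
import Cfsg.Agent.S0012

/-! S4409 piece MB-PHIPROPS (helper17 design; see plans/S4409_plan.md). -/

set_option autoImplicit false

namespace Cfsg.Agent.Helper17.MB

variable {S : Type*} [Group S]

/-- the Frattini subgroup of a 2-group. -/
theorem phiS_facts [Finite S] (X : Subgroup S) (h2 : IsPGroup 2 ↥X) :
    ⁅X, X⁆ ≤ PhiS X ∧ (∀ x ∈ X, x ^ 2 ∈ PhiS X) ∧ (X ≠ ⊥ → PhiS X ≠ X) := by
  have : Fact (Nat.Prime 2) := ⟨Nat.prime_two⟩
  obtain ⟨h1, h2'⟩ := Cfsg.Agent.S0012.result 2 h2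
  refine ⟨?_, ?_, ?_⟩
  · have hXX : ⁅X, X⁆ = (commutator ↥X).map X.subtype := by
      rw [commutator_def, Subgroup.map_commutator, ← MonoidHom.range_eq_map, Subgroup.range_subtype]
    rw [hXX]
    exact Subgroup.map_mono h1
  · intro x hx
    exact ⟨⟨x, hx⟩ ^ 2, h2' ⟨x, hx⟩, rfl⟩
  · intro hne heq
    have hnt : Nontrivial ↥X := (Subgroup.nontrivial_iff_ne_bot X).2 hne
    have htop : frattini ↥X = ⊤ := by
      apply Subgroup.map_injective X.subtype_injective
      rw [← MonoidHom.range_eq_map, Subgroup.range_subtype]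
      exact heq
    rcases IsCoatomic.eq_top_or_exists_le_coatom (⊥ : Subgroup ↥X) with h | ⟨M, hM, -⟩
    · exact absurd h bot_ne_top
    · have := frattini_le_coatom hM
      rw [htop, top_le_iff] at this
      exact hM.1 this

end Cfsg.Agent.Helper17.MB
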