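import Mathlib
import Cfsg.Agent.Lib.MB.MBDefs

/-! S4409 piece MB-TSL (helper17 design; see plans/S4409_plan.md).  Proved by helper10. -/

set_option autoImplicit false

namespace Cfsg.Agent.Helper17.MB

open scoped commutatorElement

variable {S : Type*} [Group S]

/-- three subgroups lemma: if `K` centralizes `N` and `X = [X,K]` normalizes `N` then `X`
centralizes `N`. -/
theorem commutator_eq_bot_of_three (X K N : Subgroup S)
    (hXN : X ≤ Subgroup.normalizer (N : Set S)) (hNK : ⁅N, K⁆ = ⊥) (hXK : ⁅X, K⁆ = X) :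
    ⁅N, X⁆ = ⊥ := by
  have h1 : ⁅⁅K, N⁆, X⁆ = ⊥ := by
    rw [Subgroup.commutator_comm K N, hNK, Subgroup.commutator_bot_left]
  have hNX : ⁅N, X⁆ ≤ N := by
    rw [Subgroup.commutator_le]
    intro n hn x hx
    have hx' := hXN hx
    rw [Subgroup.mem_normalizer_iff] at hx'
    have h3 : x * n⁻¹ * x⁻¹ ∈ N := (hx' n⁻¹).1 (N.inv_mem hn)
    have : ⁅n, x⁆ = n * (x * n⁻¹ * x⁻¹) := by
      rw [commutatorElement_def]; group
    rw [this]
    exact N.mul_mem hn h3
  have h2 : ⁅⁅N, X⁆, K⁆ = ⊥ := by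
    rw [eq_bot_iff, ← hNK]
    exact Subgroup.commutator_mono hNX le_rfl
  have h3 : ⁅⁅X, K⁆, N⁆ = ⊥ := Subgroup.commutator_commutator_eq_bot_of_rotate h1 h2
  rw [hXK] at h3
  rw [Subgroup.commutator_comm, h3]

end Cfsg.Agent.Helper17.MB
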