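import Mathlib
import Cfsg.Agent.Lib.MB.MBDefs
import Cfsg.Agent.Lib.MB.MBCTXBASIC
import Cfsg.Agent.Lib.MB.MBBNORMAL
import Cfsg.Agent.Lib.MB.MBPHIPROPS
import Cfsg.Agent.Lib.MB.MBCOMMNORM
import Cfsg.Agent.Lib.MB.MBCOMMCOMM
import Cfsg.Agent.Lib.MB.MBLEMMAG
import Cfsg.Agent.Lib.MB.MBTSL
import Cfsg.Agent.Lib.MB.MBE4CENT
import Cfsg.Agent.Lib.MB.MBCENTGOOD
import Cfsg.Agent.Lib.MB.MBQ8EXT
import Cfsg.Agent.Lib.MB.MBQ8BASIC
import Cfsg.Agent.Lib.MB.MBFRATQ8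

/-! S4409 piece MB-B1 (helper17 design; see plans/S4409_plan.md).  STUB: overwrite this file,
keeping the statement(s), namespace and imports (you may ADD imports of non-MB library files). -/

set_option autoImplicit false

namespace Cfsg.Agent.Helper17.MB

variable {S : Type*} [Group S]


theorem case_B1 [Finite S] [Group.IsSolvable S] {X H : Subgroup S} (h : Ctx X H)
    (hXH : ⁅X, H⁆ = X) (hna : ¬ IsMulCommutative ↥X) :
    PhiS X ≤ ZS X ∧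
      (⁅PhiS X, H⁆ = ⊥ ∨ (Nat.card ↥(PhiS X) = 4 ∧ ⁅PhiS X, H⁆ = PhiS X)) := by
  obtain ⟨hHn, hcop, -, -, hXne, hminY⟩ := ctx_facts h
  have hXn : X.Normal := h.normal
  obtain ⟨hΦn, -, -, hΦX, -, -⟩ := char_normal X
  have hΦne : PhiS X ≠ X := (phiS_facts X h.two).2.2 hXne
  have hΦnorm : H ≤ Subgroup.normalizer ((PhiS X : Subgroup S) : Set S) := by
    rw [Subgroup.normalizer_eq_top]; exact le_top
  have hXΦnorm : X ≤ Subgroup.normalizer ((PhiS X : Subgroup S) : Set S) := by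
    rw [Subgroup.normalizer_eq_top]; exact le_top
  have hgΦ : Good (PhiS X) := by
    by_contra hb
    exact hΦne (hminY _ hΦX hΦnorm hb)
  have h2Φ : IsPGroup 2 ↥(PhiS X) := h.two.to_le hΦX
  obtain ⟨hΦ1le, hΦΦ1, hHΦ1⟩ := commutator_facts (PhiS X) H hΦnorm
  have hcopΦ : (Nat.card ↥(PhiS X)).Coprime (Nat.card ↥H) :=
    Nat.Coprime.coprime_dvd_left (Subgroup.card_dvd_of_le hΦX) hcop
  have hcc := commutator_commutator_eq (PhiS X) H hΦnorm hcopΦ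
  rcases lemma_G ⁅PhiS X, H⁆ H (h2Φ.to_le hΦ1le) hHΦ1 h.odd (good_mono hΦ1le hgΦ) hcc with
    h0 | h4 | h8
  · have h1 := commutator_eq_bot_of_three X H (PhiS X) hXΦnorm h0 hXH
    have h2 : PhiS X ≤ Subgroup.centralizer (X : Set S) :=
      Subgroup.commutator_eq_bot_iff_le_centralizer.mp h1
    exact ⟨le_inf hΦX h2, Or.inl h0⟩
  · have h1 := le_centralizer_of_card_four (PhiS X) ⁅PhiS X, H⁆ H h2Φ hΦ1le hΦΦ1 h4.1 hHΦ1
      hΦnorm hcc
    have h2 : PhiS X ≤ Subgroup.centralizer ((⁅PhiS X, H⁆ : Subgroup S) : Set S) :=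
      Subgroup.le_centralizer_iff.mp h1
    have h3 := centralizer_e4_le_of_good (PhiS X) ⁅PhiS X, H⁆ h2Φ hgΦ hΦ1le h4
    have hΦeq : ⁅PhiS X, H⁆ = PhiS X := le_antisymm hΦ1le ((le_inf le_rfl h2).trans h3)
    have hΦ4 : Nat.card ↥(PhiS X) = 4 := by rw [← hΦeq]; exact h4.1
    have h5 := le_centralizer_of_card_four X (PhiS X) H h.two hΦX hXΦnorm hΦ4 hΦnorm hHn hΦeq
    exact ⟨le_inf hΦX h5, Or.inr ⟨hΦ4, hΦeq⟩⟩
  · exfalso
    by_cases hne : ⁅PhiS X, H⁆ = PhiS X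
    · have h8' : IsQ8 (PhiS X) := hne ▸ h8
      exact false_of_q8_le_phiS X (PhiS X) h.two le_rfl hXΦnorm (card_of_isQ8 _ h8')
        (not_comm_of_isQ8 _ h8')
    · obtain ⟨Y, -, hYΦ, -, -, hYbad⟩ := exists_bad_of_q8 (PhiS X) H h2Φ hΦnorm h.odd h8 hne
      exact hYbad (good_mono hYΦ hgΦ)

end Cfsg.Agent.Helper17.MB
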