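import Mathlib
import Cfsg.Agent.Lib.MB.MBDefs
import Cfsg.Agent.Lib.MB.MBABFIX

/-! S4409 piece MB-QUOTFIX (helper17 design; see plans/S4409_plan.md), implemented by helper11.
`P/N` abelian and `[P,K] = P` imply `C_P(K) ≤ N` (ABFIX in `S ⧸ N`). -/

set_option autoImplicit false

namespace Cfsg.Agent.Helper17.MB

variable {S : Type*} [Group S]

/-- coprime action: if `P/N` is abelian and `[P,K] = P` then `C_P(K) ≤ N`. -/
theorem inf_centralizer_le_of_commutator_eq [Finite S] (P K N : Subgroup S) [N.Normal]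
    (hNP : N ≤ P) (hK : K ≤ Subgroup.normalizer (P : Set S))
    (hcop : (Nat.card ↥P).Coprime (Nat.card ↥K)) (hD : ⁅P, P⁆ ≤ N) (hPK : ⁅P, K⁆ = P) :
    P ⊓ Subgroup.centralizer (K : Set S) ≤ N := by
  set π : S →* S ⧸ N := QuotientGroup.mk' N with hπ
  have hKbar : K.map π ≤ Subgroup.normalizer ((P.map π : Subgroup (S ⧸ N)) : Set (S ⧸ N)) :=
    (Subgroup.map_mono hK).trans (Subgroup.le_normalizer_map π)
  have hcopbar : (Nat.card ↥(P.map π)).Coprime (Nat.card ↥(K.map π)) :=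
    Nat.Coprime.coprime_dvd_left (Subgroup.card_map_dvd P π)
      (Nat.Coprime.coprime_dvd_right (Subgroup.card_map_dvd K π) hcop)
  have hab : ∀ a ∈ P.map π, ∀ b ∈ P.map π, a * b = b * a := by
    rintro _ ⟨x, hx, rfl⟩ _ ⟨y, hy, rfl⟩
    rw [← commutatorElement_eq_one_iff_mul_comm, ← map_commutatorElement, hπ,
      QuotientGroup.mk'_apply, QuotientGroup.eq_one_iff]
    exact hD (Subgroup.commutator_mem_commutator hx hy)
  have hcomm : ⁅P.map π, K.map π⁆ = P.map π := by
    rw [← Subgroup.map_commutator, hPK]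
  have hbot := commutator_inf_centralizer_eq_bot (P.map π) (K.map π) hKbar hcopbar hab
  rw [hcomm] at hbot
  intro c hc
  have h1 : π c ∈ P.map π ⊓ Subgroup.centralizer ((K.map π : Subgroup (S ⧸ N)) : Set (S ⧸ N)) := by
    refine ⟨Subgroup.mem_map_of_mem π hc.1, ?_⟩
    show π c ∈ Subgroup.centralizer ((K.map π : Subgroup (S ⧸ N)) : Set (S ⧸ N))
    rw [Subgroup.mem_centralizer_iff]
    rintro _ ⟨k, hk, rfl⟩
    have h2 := (Subgroup.mem_centralizer_iff.mp hc.2) k hk
    rw [← map_mul, ← map_mul, h2]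
  rw [hbot, Subgroup.mem_bot, hπ, QuotientGroup.mk'_apply, QuotientGroup.eq_one_iff] at h1
  exact h1

end Cfsg.Agent.Helper17.MB
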