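import Mathlib
import Cfsg.Agent.Lib.MB.MBDefs
import Cfsg.Agent.Lib.MB.MBCTXBASIC
import Cfsg.Agent.Lib.MB.MBBNORMAL
import Cfsg.Agent.Lib.MB.MBPHIPROPS
import Cfsg.Agent.Lib.MB.MBCOMMNORM
import Cfsg.Agent.Lib.MB.MBCOMMCOMM
import Cfsg.Agent.Lib.MB.MBLEMMAG
import Cfsg.Agent.Lib.MB.MBQUOTFIX
import Cfsg.Agent.Lib.MB.MBCENTGOOD
import Cfsg.Agent.Lib.MB.MBE4IRR
import Cfsg.Agent.Lib.MB.MBQ8BASIC

/-! S4409 piece MB-B2 (helper17 design; see plans/S4409_plan.md).  STUB: overwrite this file,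
keeping the statement(s), namespace and imports (you may ADD imports of non-MB library files). -/

set_option autoImplicit false

namespace Cfsg.Agent.Helper17.MB

variable {S : Type*} [Group S]


theorem mb_b2_comm_of_commutator_eq_bot (X : Subgroup S) (h : ⁅X, X⁆ = ⊥) :
    IsMulCommutative ↥X := by
  have h1 : X ≤ Subgroup.centralizer (X : Set S) :=
    Subgroup.commutator_eq_bot_iff_le_centralizer.mp h
  refine ⟨⟨fun a b => ?_⟩⟩
  apply Subtype.ext
  have := h1 b.2 a a.2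
  simpa using this

theorem mb_b2_comm_of_le_centralizer (X Y : Subgroup S) (hYX : Y ≤ X)
    (h : Y ≤ Subgroup.centralizer (X : Set S)) : IsMulCommutative ↥Y := by
  refine ⟨⟨fun a b => ?_⟩⟩
  apply Subtype.ext
  have := h b.2 a (hYX a.2)
  simpa using this

theorem case_B2 [Finite S] [Group.IsSolvable S] {X H : Subgroup S} (h : Ctx X H)
    (hXH : ⁅X, H⁆ = X) (hna : ¬ IsMulCommutative ↥X) (hPZ : PhiS X ≤ ZS X) :
    ZS X ≤ PhiS X := by
  obtain ⟨hHn, hcop, -, -, -, hminY⟩ := ctx_facts h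
  have hXn : X.Normal := h.normal
  obtain ⟨hΦn, hZn, hDn, hΦX, hZX, hDX⟩ := char_normal X
  have hZC : ZS X ≤ Subgroup.centralizer (X : Set S) := inf_le_right
  have hZne : ZS X ≠ X := by
    intro he
    apply hna
    exact mb_b2_comm_of_le_centralizer X X le_rfl ((le_of_eq he.symm).trans hZC)
  have hZnorm : H ≤ Subgroup.normalizer ((ZS X : Subgroup S) : Set S) := by
    rw [Subgroup.normalizer_eq_top]; exact le_top
  have hΦnorm : H ≤ Subgroup.normalizer ((PhiS X : Subgroup S) : Set S) := by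
    rw [Subgroup.normalizer_eq_top]; exact le_top
  have hgZ : Good (ZS X) := by
    by_contra hb
    exact hZne (hminY _ hZX hZnorm hb)
  have h2Z : IsPGroup 2 ↥(ZS X) := h.two.to_le hZX
  obtain ⟨hZ1le, -, hHZ1⟩ := commutator_facts (ZS X) H hZnorm
  have hcopZ : (Nat.card ↥(ZS X)).Coprime (Nat.card ↥H) :=
    Nat.Coprime.coprime_dvd_left (Subgroup.card_dvd_of_le hZX) hcop
  have hcc := commutator_commutator_eq (ZS X) H hZnorm hcopZ
  have hDΦ : ⁅X, X⁆ ≤ PhiS X := (phiS_facts X h.two).1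
  rcases lemma_G ⁅ZS X, H⁆ H (h2Z.to_le hZ1le) hHZ1 h.odd (good_mono hZ1le hgZ) hcc with
    h0 | h4 | h8
  · have h1 : ZS X ≤ Subgroup.centralizer (H : Set S) :=
      Subgroup.commutator_eq_bot_iff_le_centralizer.mp h0
    exact (le_inf hZX h1).trans
      (inf_centralizer_le_of_commutator_eq X H (PhiS X) hΦX hHn hcop hDΦ hXH)
  · have h5 := centralizer_e4_le_of_good (ZS X) ⁅ZS X, H⁆ h2Z hgZ hZ1le h4
    have h6 : ZS X ≤ Subgroup.centralizer ((⁅ZS X, H⁆ : Subgroup S) : Set S) :=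
      hZC.trans (Subgroup.centralizer_le (SetLike.coe_subset_coe.2 (hZ1le.trans hZX)))
    have hZeq : ⁅ZS X, H⁆ = ZS X := le_antisymm hZ1le ((le_inf le_rfl h6).trans h5)
    have hZ4 : Nat.card ↥(ZS X) = 4 := by rw [← hZeq]; exact h4.1
    rcases eq_bot_or_eq_of_card_four (ZS X) (PhiS X) H hZ4 hPZ hZnorm hΦnorm hZeq with hΦ | hΦ
    · exfalso
      apply hna
      apply mb_b2_comm_of_commutator_eq_bot
      rw [eq_bot_iff, ← hΦ]
      exact hDΦ
    · rw [hΦ]
  · exfalso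
    apply not_comm_of_isQ8 _ h8
    exact mb_b2_comm_of_le_centralizer X _ (hZ1le.trans hZX) (hZ1le.trans hZC)

end Cfsg.Agent.Helper17.MB
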