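import Mathlib
import Cfsg.Agent.Lib.MB.MBDefs
import Cfsg.Agent.Lib.MB.MBCTXBASIC
import Cfsg.Agent.Lib.MB.MBBNORMAL
import Cfsg.Agent.Lib.MB.MBPHIPROPS
import Cfsg.Agent.Lib.MB.MBQUOTFIX
import Cfsg.Agent.Lib.MB.MBE4IRR

/-! S4409 piece MB-B3 (helper17 design; see plans/S4409_plan.md).  STUB: overwrite this file,
keeping the statement(s), namespace and imports (you may ADD imports of non-MB library files). -/

set_option autoImplicit false

namespace Cfsg.Agent.Helper17.MB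

variable {S : Type*} [Group S]


theorem mb_b3_comm_of_commutator_eq_bot (X : Subgroup S) (h : ⁅X, X⁆ = ⊥) :
    IsMulCommutative ↥X := by
  have h1 : X ≤ Subgroup.centralizer (X : Set S) :=
    Subgroup.commutator_eq_bot_iff_le_centralizer.mp h
  refine ⟨⟨fun a b => ?_⟩⟩
  apply Subtype.ext
  have := h1 b.2 a a.2
  simpa using this

theorem case_B3 [Finite S] [Group.IsSolvable S] {X H : Subgroup S} (h : Ctx X H)
    (hXH : ⁅X, H⁆ = X) (hna : ¬ IsMulCommutative ↥X)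
    (hP : ⁅PhiS X, H⁆ = ⊥ ∨ (Nat.card ↥(PhiS X) = 4 ∧ ⁅PhiS X, H⁆ = PhiS X)) :
    PhiS X ≤ ⁅X, X⁆ := by
  obtain ⟨hHn, hcop, -, -, -, -⟩ := ctx_facts h
  have hXn : X.Normal := h.normal
  obtain ⟨hΦn, -, hDn, hΦX, -, hDX⟩ := char_normal X
  rcases hP with h0 | ⟨h4, hΦH⟩
  · have h1 : PhiS X ≤ Subgroup.centralizer (H : Set S) :=
      Subgroup.commutator_eq_bot_iff_le_centralizer.mp h0
    exact (le_inf hΦX h1).trans
      (inf_centralizer_le_of_commutator_eq X H ⁅X, X⁆ hDX hHn hcop le_rfl hXH)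
  · have hDΦ : ⁅X, X⁆ ≤ PhiS X := (phiS_facts X h.two).1
    have hn1 : H ≤ Subgroup.normalizer ((PhiS X : Subgroup S) : Set S) := by
      rw [Subgroup.normalizer_eq_top]; exact le_top
    have hn2 : H ≤ Subgroup.normalizer ((⁅X, X⁆ : Subgroup S) : Set S) := by
      rw [Subgroup.normalizer_eq_top]; exact le_top
    rcases eq_bot_or_eq_of_card_four (PhiS X) ⁅X, X⁆ H h4 hDΦ hn1 hn2 hΦH with hD | hD
    · exact absurd (mb_b3_comm_of_commutator_eq_bot X hD) hna
    · rw [hD]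

end Cfsg.Agent.Helper17.MB
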