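import Mathlib
import Cfsg.Agent.Lib.MB.MBDefs

/-! S4409 piece MB-CLASS2EXP (helper17 design; see plans/S4409_plan.md).  Proved by helper10. -/

set_option autoImplicit false

namespace Cfsg.Agent.Helper17.MB

open scoped commutatorElement

variable {S : Type*} [Group S]

theorem mb_class2exp_comm_sq (x y : S) (hcx : ⁅x, y⁆ * x = x * ⁅x, y⁆)
    (hx2 : y * x ^ 2 = x ^ 2 * y) : ⁅x, y⁆ ^ 2 = 1 := by
  have h1 : ⁅x, y⁆ ^ 2 = ⁅x, y⁆ * x * y * x⁻¹ * y⁻¹ := by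
    rw [pow_two]
    conv_lhs => rw [commutatorElement_def]
    group
  rw [h1, hcx, commutatorElement_def]
  rw [pow_two] at hx2
  have h2 : x * (x * y * x⁻¹ * y⁻¹) * y * x⁻¹ * y⁻¹ = (x * x * y) * (x⁻¹ * x⁻¹ * y⁻¹) := by group
  rw [h2, ← hx2]
  group

/-- in a group with `X' ≤ Z(X)` and all squares central, `X'` has exponent 2. -/
theorem sq_eq_one_of_mem_commutator (X : Subgroup S) (hD : ⁅X, X⁆ ≤ ZS X)
    (hsq : ∀ x ∈ X, x ^ 2 ∈ ZS X) : ∀ d ∈ ⁅X, X⁆, d ^ 2 = 1 := by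
  intro d hd
  have hgen : ∀ g ∈ {g | ∃ g₁ ∈ X, ∃ g₂ ∈ X, ⁅g₁, g₂⁆ = g}, g ∈ ⁅X, X⁆ := by
    rintro g ⟨g₁, h₁, g₂, h₂, rfl⟩
    exact Subgroup.commutator_mem_commutator h₁ h₂
  rw [Subgroup.commutator_def] at hd
  induction hd using Subgroup.closure_induction with
  | mem g hg =>
    obtain ⟨x, hx, y, hy, rfl⟩ := hg
    have hc : ⁅x, y⁆ ∈ ZS X := hD (Subgroup.commutator_mem_commutator hx hy)
    have hc2 := (Subgroup.mem_inf.1 hc).2
    have hx2 := (Subgroup.mem_inf.1 (hsq x hx)).2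
    apply mb_class2exp_comm_sq
    · exact (Subgroup.mem_centralizer_iff.1 hc2 x hx).symm
    · exact Subgroup.mem_centralizer_iff.1 hx2 y hy
  | one => simp
  | mul a b ha hb iha ihb =>
    rw [← Subgroup.commutator_def] at ha hb
    have ha' := hD ha
    have hb' := hD hb
    have hbX : b ∈ X := (Subgroup.mem_inf.1 hb').1
    have hab : Commute a b := (Subgroup.mem_centralizer_iff.1 (Subgroup.mem_inf.1 ha').2 b hbX).symm
    rw [hab.mul_pow, iha, ihb, one_mul]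
  | inv a ha iha =>
    rw [inv_pow, iha, inv_one]

end Cfsg.Agent.Helper17.MB
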