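import Mathlib
import Cfsg.Agent.Lib.MB.MBDefs
import Cfsg.Agent.Lib.MB.MBCTXBASIC
import Cfsg.Agent.Lib.MB.MBBNORMAL
import Cfsg.Agent.Lib.MB.MBPHIPROPS
import Cfsg.Agent.Lib.MB.MBABGOOD
import Cfsg.Agent.Lib.MB.MBCLASS2EXP

/-! S4409 piece MB-B5 (helper17 design; see plans/S4409_plan.md).  STUB: overwrite this file,
keeping the statement(s), namespace and imports (you may ADD imports of non-MB library files). -/

set_option autoImplicit false

namespace Cfsg.Agent.Helper17.MB

variable {S : Type*} [Group S]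


theorem mb_b5_comm_of_le_centralizer (X Y : Subgroup S) (hYX : Y ≤ X)
    (h : Y ≤ Subgroup.centralizer (X : Set S)) : IsMulCommutative ↥Y := by
  refine ⟨⟨fun a b => ?_⟩⟩
  apply Subtype.ext
  have := h b.2 a (hYX a.2)
  simpa using this

theorem case_B5 [Finite S] {X H : Subgroup S} (h : Ctx X H)
    (hna : ¬ IsMulCommutative ↥X) (hPZ : PhiS X = ZS X) (hDZ : ⁅X, X⁆ = ZS X) :
    Nat.card ↥(ZS X) = 2 ∨ Nat.card ↥(ZS X) = 4 := by
  obtain ⟨-, -, -, -, -, hminY⟩ := ctx_facts h
  have hXn : X.Normal := h.normal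
  obtain ⟨-, hZn, -, -, hZX, -⟩ := char_normal X
  have hZC : ZS X ≤ Subgroup.centralizer (X : Set S) := inf_le_right
  have hZne : ZS X ≠ X := by
    intro he
    apply hna
    exact mb_b5_comm_of_le_centralizer X X le_rfl ((le_of_eq he.symm).trans hZC)
  have hZnorm : H ≤ Subgroup.normalizer ((ZS X : Subgroup S) : Set S) := by
    rw [Subgroup.normalizer_eq_top]; exact le_top
  have hgZ : Good (ZS X) := by
    by_contra hb
    exact hZne (hminY _ hZX hZnorm hb)
  have h2Z : IsPGroup 2 ↥(ZS X) := h.two.to_le hZX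
  have hab : ∀ a ∈ ZS X, ∀ b ∈ ZS X, a * b = b * a := by
    intro a ha b hb
    exact (hZC hb a (hZX ha)).symm ▸ rfl
  have hsqX : ∀ x ∈ X, x ^ 2 ∈ ZS X := by
    intro x hx
    rw [← hPZ]
    exact (phiS_facts X h.two).2.1 x hx
  have hexp : ∀ z ∈ ZS X, z ^ 2 = 1 := by
    intro z hz
    apply sq_eq_one_of_mem_commutator X hDZ.le hsqX
    rw [hDZ]; exact hz
  obtain ⟨n, hn⟩ := h2Z.exists_card_eq
  have hne1 : Nat.card ↥(ZS X) ≠ 1 := by
    intro h1
    apply hna
    have hbot : ZS X = ⊥ := Subgroup.card_eq_one.mp h1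
    have hD : ⁅X, X⁆ = ⊥ := by rw [hDZ, hbot]
    have h1 : X ≤ Subgroup.centralizer (X : Set S) :=
      Subgroup.commutator_eq_bot_iff_le_centralizer.mp hD
    exact mb_b5_comm_of_le_centralizer X X le_rfl h1
  have hle4 : Nat.card ↥(ZS X) ≤ 4 := by
    rcases cyclic_or_card_le_of_abelian_good (ZS X) h2Z hab hgZ with hc | hc
    · obtain ⟨g, hg⟩ := hc.exists_generator
      have h1 : orderOf g = Nat.card ↥(ZS X) := orderOf_eq_card_of_forall_mem_zpowers hg
      have h2 : g ^ 2 = 1 := by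
        apply Subtype.ext
        have := hexp g g.2
        simpa using this
      have h3 : orderOf g ∣ 2 := orderOf_dvd_of_pow_eq_one h2
      have h4 := Nat.le_of_dvd (by norm_num) h3
      omega
    · exact hc
  rw [hn] at hne1 hle4 ⊢
  have hn2 : n ≤ 2 := by
    by_contra hlt
    push Not at hlt
    have : 2 ^ 3 ≤ 2 ^ n := Nat.pow_le_pow_right (by norm_num) hlt
    omega
  interval_cases n
  · exact absurd rfl hne1
  · left; rfl
  · right; rfl

end Cfsg.Agent.Helper17.MB
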