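import Mathlib
import Cfsg.Agent.Lib.MB.MBDefs

/-! S4409 piece MB-ES32 (helper17 design; see plans/S4409_plan.md).  STUB: overwrite this file,
keeping the statement(s), namespace and imports (you may ADD imports of non-MB library files). -/

set_option autoImplicit false

namespace Cfsg.Agent.Helper17.MB

variable {S : Type*} [Group S]


theorem mb_es32_comm_of_le_centralizer (Y : Subgroup S)
    (h : Y ≤ Subgroup.centralizer (Y : Set S)) : IsMulCommutative ↥Y := by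
  refine ⟨⟨fun a b => ?_⟩⟩
  apply Subtype.ext
  have := h b.2 a a.2
  simpa using this

/-- the commutator map `a ↦ [a,w]` on an abelian... (any) subgroup `A ≤ X` when `X' ≤ Z(X)`. -/
def mb_es32_hom (X A : Subgroup S) (hAX : A ≤ X) (hD : ⁅X, X⁆ ≤ ZS X) (w : S) (hw : w ∈ X) :
    ↥A →* ↥(ZS X) :=
  MonoidHom.mk' (fun a => ⟨a.1 * w * a.1⁻¹ * w⁻¹,
      hD (Subgroup.commutator_mem_commutator (hAX a.2) hw)⟩) (by
    intro a b
    apply Subtype.ext
    have hb : b.1 * w * b.1⁻¹ * w⁻¹ ∈ Subgroup.centralizer (X : Set S) :=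
      (hD (Subgroup.commutator_mem_commutator (hAX b.2) hw)).2
    have h1 : a.1 * (b.1 * w * b.1⁻¹ * w⁻¹) = (b.1 * w * b.1⁻¹ * w⁻¹) * a.1 :=
      hb a.1 (hAX a.2)
    have ha' : a.1 * w * a.1⁻¹ * w⁻¹ ∈ X :=
      X.mul_mem (X.mul_mem (X.mul_mem (hAX a.2) hw) (X.inv_mem (hAX a.2))) (X.inv_mem hw)
    have h2 : (a.1 * w * a.1⁻¹ * w⁻¹) * (b.1 * w * b.1⁻¹ * w⁻¹) =
        (b.1 * w * b.1⁻¹ * w⁻¹) * (a.1 * w * a.1⁻¹ * w⁻¹) := hb _ ha'
    show (a.1 * b.1) * w * (a.1 * b.1)⁻¹ * w⁻¹ =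
      (a.1 * w * a.1⁻¹ * w⁻¹) * (b.1 * w * b.1⁻¹ * w⁻¹)
    rw [h2]
    calc (a.1 * b.1) * w * (a.1 * b.1)⁻¹ * w⁻¹
        = (a.1 * (b.1 * w * b.1⁻¹ * w⁻¹)) * (w * a.1⁻¹ * w⁻¹) := by group
      _ = ((b.1 * w * b.1⁻¹ * w⁻¹) * a.1) * (w * a.1⁻¹ * w⁻¹) := by rw [h1]
      _ = (b.1 * w * b.1⁻¹ * w⁻¹) * (a.1 * w * a.1⁻¹ * w⁻¹) := by group)

theorem card_ge_of_center_two [Finite S] (X : Subgroup S) (h2 : IsPGroup 2 ↥X)
    (hbad : ¬ Good X) (hna : ¬ IsMulCommutative ↥X) (hD : ⁅X, X⁆ ≤ ZS X)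
    (hZ : Nat.card ↥(ZS X) = 2) : 32 ≤ Nat.card ↥X := by
  rw [not_good_iff] at hbad
  obtain ⟨A, hAX, hAc, -, hA8⟩ := hbad
  have hAab : ∀ a ∈ A, ∀ b ∈ A, a * b = b * a := by
    intro a ha b hb
    have := hAc.is_comm.comm (⟨a, ha⟩ : ↥A) ⟨b, hb⟩
    exact congrArg Subtype.val this
  have hAne : A ≠ X := by
    intro he
    apply hna
    rw [← he]; exact hAc
  obtain ⟨n, hn⟩ := h2.exists_card_eq
  have hdvd : Nat.card ↥A ∣ Nat.card ↥X := Subgroup.card_dvd_of_le hAX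
  have hne8 : Nat.card ↥X ≠ 8 := by
    intro h8
    exact hAne (Subgroup.eq_of_le_of_card_ge hAX (by rw [h8, hA8]))
  by_contra hlt
  push Not at hlt
  have hX16 : Nat.card ↥X = 16 := by
    rw [hn] at hlt hne8 hdvd ⊢
    rw [hA8] at hdvd
    have hn5 : n < 5 := by
      by_contra h5
      push Not at h5
      have : 2 ^ 5 ≤ 2 ^ n := Nat.pow_le_pow_right (by norm_num) h5
      omega
    interval_cases n <;> simp_all <;> omega
  -- an element outside A
  have hex : ∃ w ∈ X, w ∉ A := by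
    by_contra hcon
    push Not at hcon
    exact hAne (le_antisymm hAX hcon)
  obtain ⟨w, hwX, hwA⟩ := hex
  set f := mb_es32_hom X A hAX hD w hwX with hf
  -- index two
  have hidx : (A.subgroupOf X).index = 2 := by
    have h1 := Subgroup.card_mul_index (A.subgroupOf X)
    have h3 : Nat.card ↥(A.subgroupOf X) = 8 := by
      rw [Nat.card_congr (Subgroup.subgroupOfEquivOfLe hAX).toEquiv, hA8]
    rw [h3, hX16] at h1
    omega
  -- the kernel is central
  have hker : ∀ a : ↥A, a ∈ f.ker → a.1 ∈ ZS X := by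
    intro a ha
    rw [MonoidHom.mem_ker] at ha
    have ha1 : a.1 * w * a.1⁻¹ * w⁻¹ = 1 := by
      have := congrArg Subtype.val ha
      simpa [hf, mb_es32_hom] using this
    have haw : a.1 * w = w * a.1 := by
      have : a.1 * w = (a.1 * w * a.1⁻¹ * w⁻¹) * (w * a.1) := by group
      rw [this, ha1, one_mul]
    refine ⟨hAX a.2, ?_⟩
    show a.1 ∈ Subgroup.centralizer (X : Set S)
    rw [Subgroup.mem_centralizer_iff]
    intro x hx
    by_cases hxA : x ∈ A
    · exact hAab x hxA a.1 a.2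
    · -- x = (x w⁻¹) w with x w⁻¹ ∈ A
      have h1 : (⟨x, hx⟩ : ↥X) * (⟨w, hwX⟩ : ↥X)⁻¹ ∈ A.subgroupOf X := by
        rw [Subgroup.mul_mem_iff_of_index_two hidx]
        simp only [Subgroup.mem_subgroupOf, Subgroup.coe_inv]
        constructor
        · intro h; exact absurd h hxA
        · intro h; exact absurd (by simpa using A.inv_mem h) hwA
      have h2 : x * w⁻¹ ∈ A := by simpa [Subgroup.mem_subgroupOf] using h1
      have h3 := hAab (x * w⁻¹) h2 a.1 a.2
      calc x * a.1 = (x * w⁻¹) * (w * a.1) := by group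
        _ = (x * w⁻¹) * (a.1 * w) := by rw [haw]
        _ = ((x * w⁻¹) * a.1) * w := by group
        _ = (a.1 * (x * w⁻¹)) * w := by rw [h3]
        _ = a.1 * x := by group
  -- count
  have hk : Nat.card ↥f.ker ≤ 2 := by
    rw [← hZ]
    apply Nat.card_le_card_of_injective
      (fun a : ↥f.ker => (⟨a.1.1, hker a.1 a.2⟩ : ↥(ZS X)))
    intro a b hab
    have := congrArg Subtype.val hab
    exact Subtype.ext (Subtype.ext this)
  have hr : Nat.card ↥f.range ≤ 2 := by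
    rw [← hZ]
    exact Nat.card_le_card_of_injective (fun a : ↥f.range => a.1) Subtype.val_injective
  have h1 := Subgroup.card_mul_index f.ker
  rw [Subgroup.index_ker, hA8] at h1
  nlinarith

end Cfsg.Agent.Helper17.MB
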