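import Mathlib
import Cfsg.Agent.Lib.MB.MBDefs

/-! S4409 piece MB-TRANSFER (helper17 design; see plans/S4409_plan.md).  Proved by helper10. -/

set_option autoImplicit false

namespace Cfsg.Agent.Helper17.MB

variable {S : Type*} [Group S]

theorem mb_transfer_center (X : Subgroup S) :
    (Subgroup.center ↥X).map X.subtype = ZS X := by
  ext s
  unfold ZS
  rw [Subgroup.mem_map, Subgroup.mem_inf, Subgroup.mem_centralizer_iff]
  constructor
  · rintro ⟨x, hx, rfl⟩
    refine ⟨x.2, fun h hh => ?_⟩
    have := (Subgroup.mem_center_iff.1 hx) ⟨h, hh⟩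
    exact congrArg Subtype.val this
  · rintro ⟨hs, hc⟩
    refine ⟨⟨s, hs⟩, ?_, rfl⟩
    rw [Subgroup.mem_center_iff]
    intro g
    apply Subtype.ext
    exact hc g.1 g.2

theorem mb_transfer_commutator (X : Subgroup S) :
    (commutator ↥X).map X.subtype = ⁅X, X⁆ := by
  rw [commutator_def, Subgroup.map_commutator, ← MonoidHom.range_eq_map, Subgroup.range_subtype]

/-- passing from subgroups of `S` inside `X` to subgroups of `↥X`. -/
theorem transfer_facts (X : Subgroup S) :
    (PhiS X = ZS X → frattini ↥X = Subgroup.center ↥X) ∧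
      (⁅X, X⁆ = ZS X → commutator ↥X = Subgroup.center ↥X) ∧
      Nat.card ↥(Subgroup.center ↥X) = Nat.card ↥(ZS X) := by
  have hinj := Subgroup.map_injective X.subtype_injective
  refine ⟨fun h => ?_, fun h => ?_, ?_⟩
  · apply hinj
    rw [mb_transfer_center]
    exact h
  · apply hinj
    rw [mb_transfer_center, mb_transfer_commutator]
    exact h
  · rw [← mb_transfer_center]
    exact (Subgroup.card_map_of_injective X.subtype_injective).symm

end Cfsg.Agent.Helper17.MB
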