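import Mathlib
import Cfsg.Agent.Lib.MB.MBDefs
import Cfsg.Agent.Lib.MB.MBB1
import Cfsg.Agent.Lib.MB.MBB2
import Cfsg.Agent.Lib.MB.MBB3
import Cfsg.Agent.Lib.MB.MBB5
import Cfsg.Agent.Lib.MB.MBPHIPROPS
import Cfsg.Agent.Lib.MB.MBES32
import Cfsg.Agent.Lib.MB.MBTRANSFER

/-! S4409 assembly MB-CASEB (helper17; see plans/S4409_plan.md). -/

set_option autoImplicit false

namespace Cfsg.Agent.Helper17.MB

variable {S : Type*} [Group S]

theorem case_B [Finite S] [Group.IsSolvable S] {X H : Subgroup S} (h : Ctx X H)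
    (hXH : ⁅X, H⁆ = X) (hna : ¬ IsMulCommutative ↥X) :
    (Cfsg.IsExtraspecial 2 ↥X ∧ 32 ≤ Nat.card ↥X) ∨
      (Cfsg.IsSpecial 2 ↥X ∧ Nat.card ↥(Subgroup.center ↥X) = 4) := by
  obtain ⟨hPZ, hP⟩ := case_B1 h hXH hna
  have hZP := case_B2 h hXH hna hPZ
  have hPD := case_B3 h hXH hna hP
  have hDP := (phiS_facts X h.two).1
  have e1 : PhiS X = ZS X := le_antisymm hPZ hZP
  have e2 : ⁅X, X⁆ = ZS X := by rw [← e1]; exact le_antisymm hDP hPD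
  obtain ⟨t1, t2, t3⟩ := transfer_facts X
  have hsp : Cfsg.IsSpecial 2 ↥X := ⟨h.two, t1 e1, t2 e2⟩
  rcases case_B5 h hna e1 e2 with h5 | h5
  · left
    refine ⟨⟨hsp, by rw [t3, h5]⟩, ?_⟩
    exact card_ge_of_center_two X h.two h.bad hna e2.le h5
  · right
    exact ⟨hsp, by rw [t3, h5]⟩

end Cfsg.Agent.Helper17.MB
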