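import Mathlib
import Cfsg.Agent.Lib.MB.MBDefs

/-! S4409 piece MB-CENTIDX2 (helper17 design; see plans/S4409_plan.md).  Proved by helper10. -/

set_option autoImplicit false

namespace Cfsg.Agent.Helper17.MB

variable {S : Type*} [Group S]

/-- a group with a central subgroup of index 2 is abelian. -/
theorem comm_of_central_index_two [Finite S] (Q U : Subgroup S) (hUQ : U ≤ Q)
    (hc : Q ≤ Subgroup.centralizer (U : Set S)) (h : Nat.card ↥Q = 2 * Nat.card ↥U) :
    IsMulCommutative ↥Q := by
  have hcard : Nat.card ↥(U.subgroupOf Q) = Nat.card ↥U :=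
    Nat.card_congr (Subgroup.subgroupOfEquivOfLe hUQ).toEquiv
  have hidx : (U.subgroupOf Q).index = 2 := by
    have h1 := (U.subgroupOf Q).card_mul_index
    rw [hcard, h] at h1
    have hpos : 0 < Nat.card ↥U := Nat.card_pos
    have : Nat.card ↥U * (U.subgroupOf Q).index = Nat.card ↥U * 2 := by rw [h1, mul_comm]
    exact Nat.eq_of_mul_eq_mul_left hpos this
  -- elements of `U` commute with all elements of `Q`
  have hcomm : ∀ a : S, a ∈ Q → ∀ u : S, u ∈ U → u * a = a * u := by
    intro a ha u hu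
    exact (Subgroup.mem_centralizer_iff.1 (hc ha)) u hu
  refine ⟨⟨fun a b => ?_⟩⟩
  apply Subtype.ext
  rw [Subgroup.coe_mul, Subgroup.coe_mul]
  by_cases ha : (a : S) ∈ U
  · exact hcomm b b.2 a ha
  · by_cases hb : (b : S) ∈ U
    · exact (hcomm a a.2 b hb).symm
    · -- both outside `U`: `a⁻¹ * b ∈ U`
      have hmem : a⁻¹ * b ∈ U.subgroupOf Q := by
        rw [Subgroup.mul_mem_iff_of_index_two hidx]
        rw [Subgroup.inv_mem_iff, Subgroup.mem_subgroupOf, Subgroup.mem_subgroupOf]
        exact ⟨fun h => absurd h ha, fun h => absurd h hb⟩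
      rw [Subgroup.mem_subgroupOf] at hmem
      have hu : (a : S)⁻¹ * (b : S) ∈ U := by simpa using hmem
      have h3 := hcomm a a.2 _ hu
      calc (a : S) * (b : S) = (a : S) * ((a : S) * ((a : S)⁻¹ * (b : S))) := by group
        _ = (a : S) * (((a : S)⁻¹ * (b : S)) * (a : S)) := by rw [h3]
        _ = (b : S) * (a : S) := by group

end Cfsg.Agent.Helper17.MB
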