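import Mathlib
import Cfsg.Agent.Lib.MB.MBDefs

/-! S4409 piece MB-HALL (helper17 design; see plans/S4409_plan.md). -/

set_option autoImplicit false

namespace Cfsg.Agent.Helper17.MB

variable {S : Type*} [Group S]

/-- a Hall 2'-subgroup. -/
theorem exists_hall [Finite S] [Group.IsSolvable S] (X : Sylow 2 S) :
    ∃ H : Subgroup S, Nat.card ↥(X : Subgroup S) * Nat.card ↥H = Nat.card S ∧
      (Nat.card ↥H).Coprime 2 := by
  have : Fact (Nat.Prime 2) := ⟨Nat.prime_two⟩
  have hcop : (Nat.card ↥(X : Subgroup S)).Coprime (X : Subgroup S).index :=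
    Sylow.card_coprime_index X
  have hcard : Nat.card S = (X : Subgroup S).index * Nat.card ↥(X : Subgroup S) := by
    rw [mul_comm]; exact (Subgroup.card_mul_index _).symm
  obtain ⟨H, hH⟩ := Cfsg.Agent.Helper1.hall_exists (G := S) (X : Subgroup S).index
    (Nat.card ↥(X : Subgroup S)) hcard hcop.symm
  refine ⟨H, ?_, ?_⟩
  · rw [hH, hcard, mul_comm]
  · rw [hH]
    -- the index of a Sylow 2-subgroup is odd
    have hnd : ¬ 2 ∣ (X : Subgroup S).index := Sylow.not_dvd_index X
    exact (Nat.Prime.coprime_iff_not_dvd Nat.prime_two).2 hnd |>.symm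
end Cfsg.Agent.Helper17.MB
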