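import Mathlib
import Cfsg.Agent.Lib.MB.MBDefs

/-! S4409 piece MB-PCORE (helper17 design; see plans/S4409_plan.md). -/

set_option autoImplicit false

namespace Cfsg.Agent.Helper17.MB

variable {S : Type*} [Group S]

/-- facts on `O_2(S)`. -/
theorem pCore_facts [Finite S] [Group.IsSolvable S] (hO : Cfsg.pPrimeCore 2 S = ⊥) :
    (Cfsg.pCore 2 S).Normal ∧ IsPGroup 2 ↥(Cfsg.pCore 2 S) ∧
      (∀ X : Sylow 2 S, Cfsg.pCore 2 S ≤ (X : Subgroup S)) ∧
      Subgroup.centralizer (Cfsg.pCore 2 S : Set S) ≤ Cfsg.pCore 2 S ∧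
      (IsPGroup 2 S → Cfsg.pCore 2 S = ⊤) ∧
      (∀ X : Sylow 2 S, (X : Subgroup S).Normal → Cfsg.pCore 2 S = (X : Subgroup S)) := by
  have : Fact (Nat.Prime 2) := ⟨Nat.prime_two⟩
  have hn : (Cfsg.pCore 2 S).Normal := Subgroup.sSup_normal _ (fun _ h => h.1)
  have hle : ∀ X : Sylow 2 S, Cfsg.pCore 2 S ≤ (X : Subgroup S) :=
    fun X => Cfsg.Agent.Helper14.pCore_le_sylow X
  refine ⟨hn, Cfsg.Agent.Helper14.pCore_isPGroup 2 S, hle,
    Cfsg.Agent.Helper16.centralizer_pCore_le_of_isSolvable 2 inferInstance hO, ?_, ?_⟩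
  · intro h2
    rw [eq_top_iff]
    refine Cfsg.Agent.Helper14.le_pCore inferInstance ?_
    intro g
    obtain ⟨k, hk⟩ := h2 (g : S)
    exact ⟨k, Subtype.ext (by simpa using hk)⟩
  · intro X hX
    exact le_antisymm (hle X) (Cfsg.Agent.Helper14.le_pCore hX X.2)

end Cfsg.Agent.Helper17.MB
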