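import Mathlib
import Cfsg.Agent.Lib.MB.MBDefs

/-! S4409 piece MB-SUPIDX (helper17 design; see plans/S4409_plan.md).  Proved by helper10. -/

set_option autoImplicit false

namespace Cfsg.Agent.Helper17.MB

open scoped Pointwise

variable {S : Type*} [Group S]

theorem mb_supidx_card [Finite S] (Y H : Subgroup S)
    (hH : H ≤ Subgroup.normalizer (Y : Set S)) (hcop : (Nat.card ↥Y).Coprime (Nat.card ↥H)) :
    Nat.card ↥(Y ⊔ H) = Nat.card ↥Y * Nat.card ↥H := by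
  apply le_antisymm
  · have h1 := Subgroup.coe_mul_of_right_le_normalizer_left Y H hH
    have h2 : Nat.card ↥(Y ⊔ H) = Nat.card ↥((Y : Set S) * (H : Set S)) := by
      rw [← h1]; rfl
    rw [h2]
    exact Set.natCard_mul_le
  · apply Nat.le_of_dvd Nat.card_pos
    exact Nat.Coprime.mul_dvd_of_dvd_of_dvd hcop (Subgroup.card_dvd_of_le le_sup_left)
      (Subgroup.card_dvd_of_le le_sup_right)

/-- `Y H` for `Y ≤ X` normalized by the Hall subgroup `H`. -/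
theorem sup_hall_facts [Finite S] (X Y H : Subgroup S) (hX2 : IsPGroup 2 ↥X) (hYX : Y ≤ X)
    (hH : H ≤ Subgroup.normalizer (Y : Set S)) (hodd : (Nat.card ↥H).Coprime 2)
    (hcard : Nat.card ↥X * Nat.card ↥H = Nat.card S) :
    Nat.card ↥(Y ⊔ H) = Nat.card ↥Y * Nat.card ↥H ∧ (∃ k : ℕ, (Y ⊔ H).index = 2 ^ k) ∧
      (Y ⊔ H = ⊤ → Y = X) := by
  haveI : Fact (Nat.Prime 2) := ⟨Nat.prime_two⟩
  have hY2 : IsPGroup 2 ↥Y := hX2.to_le hYX
  obtain ⟨j, hj⟩ := IsPGroup.iff_card.1 hY2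
  obtain ⟨n, hn⟩ := IsPGroup.iff_card.1 hX2
  have hcop : (Nat.card ↥Y).Coprime (Nat.card ↥H) := by
    rw [hj]
    exact (Nat.Coprime.pow_right j hodd).symm
  have h1 : Nat.card ↥(Y ⊔ H) = Nat.card ↥Y * Nat.card ↥H := mb_supidx_card Y H hH hcop
  have hHpos : 0 < Nat.card ↥H := Nat.card_pos
  have h2 := (Y ⊔ H).card_mul_index
  rw [h1, ← hcard] at h2
  have h3 : Nat.card ↥Y * (Y ⊔ H).index = Nat.card ↥X := by
    have : Nat.card ↥H * (Nat.card ↥Y * (Y ⊔ H).index) = Nat.card ↥H * Nat.card ↥X := by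
      calc Nat.card ↥H * (Nat.card ↥Y * (Y ⊔ H).index)
          = Nat.card ↥Y * Nat.card ↥H * (Y ⊔ H).index := by ring
        _ = Nat.card ↥X * Nat.card ↥H := h2
        _ = Nat.card ↥H * Nat.card ↥X := by ring
    exact Nat.eq_of_mul_eq_mul_left hHpos this
  refine ⟨h1, ?_, ?_⟩
  · have hdvd : (Y ⊔ H).index ∣ 2 ^ n := by
      rw [← hn, ← h3]
      exact Dvd.intro_left _ rfl
    obtain ⟨k, -, hk⟩ := (Nat.dvd_prime_pow Nat.prime_two).1 hdvd
    exact ⟨k, hk⟩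
  · intro htop
    rw [htop, Subgroup.index_top, mul_one] at h3
    exact Subgroup.eq_of_le_of_card_ge hYX h3.ge

end Cfsg.Agent.Helper17.MB
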