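import Mathlib
import Cfsg.Agent.Lib.MB.MBDefs
import Cfsg.Agent.Lib.MB.MBPCORE
import Cfsg.Agent.Lib.MB.MBHALL
import Cfsg.Agent.Lib.MB.MBSUPIDX

/-! S4409 piece MB-CTX (helper17 design; see plans/S4409_plan.md): the context of part 2. -/

set_option autoImplicit false
set_option linter.style.haveILetI false

namespace Cfsg.Agent.Helper17.MB

variable {S : Type*} [Group S]

/-- the context of part 2. -/
theorem exists_ctx [Finite S] [Group.IsSolvable S] (hO : Cfsg.pPrimeCore 2 S = ⊥)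
    (h8 : ¬ Good (⊤ : Subgroup S))
    (hmin : ∀ R : Subgroup S, R ≠ ⊤ → (∃ k : ℕ, R.index = 2 ^ k) → Good R)
    (X : Sylow 2 S) (hX : (X : Subgroup S).Normal) : ∃ H : Subgroup S, Ctx (X : Subgroup S) H := by
  classical
  haveI : Fact (Nat.Prime 2) := ⟨Nat.prime_two⟩
  haveI := hX
  obtain ⟨H, hcard, hodd⟩ := exists_hall X
  have hHX : H ≤ Subgroup.normalizer ((X : Subgroup S) : Set S) := by
    rw [Subgroup.normalizer_eq_top]; exact le_top
  refine ⟨H, hX, X.isPGroup', hodd, ?_, ?_, ?_, ?_⟩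
  · -- sup
    obtain ⟨h1, -, -⟩ := sup_hall_facts (X : Subgroup S) (X : Subgroup S) H X.isPGroup' le_rfl hHX
      hodd hcard
    rw [← Subgroup.card_eq_iff_eq_top, h1, hcard]
  · -- cent
    obtain ⟨-, -, -, hc, -, heq⟩ := pCore_facts (S := S) hO
    have := heq X hX
    rw [this] at hc
    exact hc
  · -- bad
    obtain ⟨A, -, hAc, hAnc, hA8⟩ := (not_good_iff (⊤ : Subgroup S)).mp h8
    have hA2 : IsPGroup 2 ↥A := IsPGroup.of_card (n := 3) (by rw [hA8]; norm_num)
    obtain ⟨P, hAP⟩ := hA2.exists_le_sylow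
    have hXP : (X : Subgroup S) ≤ (P : Subgroup S) := X.isPGroup'.le_sylow_of_normal P
    have hPX : (P : Subgroup S) = (X : Subgroup S) := X.is_maximal' P.isPGroup' hXP
    rw [not_good_iff]
    exact ⟨A, hPX ▸ hAP, hAc, hAnc, hA8⟩
  · -- min
    intro Y hYX hHY hne
    obtain ⟨-, hidx, htop⟩ := sup_hall_facts (X : Subgroup S) Y H X.isPGroup' hYX hHY hodd hcard
    exact hmin (Y ⊔ H) (fun h => hne (htop h)) hidx

end Cfsg.Agent.Helper17.MB
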