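import Mathlib
import Cfsg.Agent.Lib.MB.MBDefs

/-! S4409 piece MB-FRATLE (helper17 design; see plans/S4409_plan.md).  Proved by helper10. -/

set_option autoImplicit false

namespace Cfsg.Agent.Helper17.MB

variable {S : Type*} [Group S]

theorem mb_fratle_coatom {G : Type*} [Group G] [Finite G] (K : Subgroup G) (h : K.index = 2) :
    IsCoatom K := by
  refine ⟨?_, ?_⟩
  · intro h1
    rw [h1, Subgroup.index_top] at h
    omega
  · intro L hKL
    have hdvd : L.index ∣ K.index := Subgroup.index_dvd_of_le hKL.le
    rw [h] at hdvd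
    rcases (Nat.dvd_prime Nat.prime_two).1 hdvd with h1 | h2
    · exact Subgroup.index_eq_one.1 h1
    · exfalso
      have hc1 := L.card_mul_index
      have hc2 := K.card_mul_index
      rw [h2] at hc1
      rw [h] at hc2
      have hle : Nat.card ↥L ≤ Nat.card ↥K := by omega
      exact hKL.ne (Subgroup.eq_of_le_of_card_ge hKL.le hle)

/-- a subgroup of index at most 2 contains the Frattini subgroup. -/
theorem phiS_le_of_card_le [Finite S] (X M : Subgroup S) (hMX : M ≤ X)
    (h : Nat.card ↥X ≤ 2 * Nat.card ↥M) : PhiS X ≤ M := by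
  unfold PhiS
  rw [Subgroup.map_le_iff_le_comap]
  change frattini ↥X ≤ M.subgroupOf X
  have hcard : Nat.card ↥(M.subgroupOf X) = Nat.card ↥M :=
    Nat.card_congr (Subgroup.subgroupOfEquivOfLe hMX).toEquiv
  have h1 := (M.subgroupOf X).card_mul_index
  rw [hcard] at h1
  have hMpos : 0 < Nat.card ↥M := Nat.card_pos
  have hipos : 0 < (M.subgroupOf X).index := Nat.pos_of_ne_zero (Subgroup.index_ne_zero_of_finite)
  have hle2 : (M.subgroupOf X).index ≤ 2 := by
    by_contra hcon
    have hcon' : 3 ≤ (M.subgroupOf X).index := by omega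
    have := Nat.mul_le_mul_left (Nat.card ↥M) hcon'
    omega
  by_cases htop : M.subgroupOf X = ⊤
  · rw [htop]; exact le_top
  · have hne1 : (M.subgroupOf X).index ≠ 1 := fun h => htop (Subgroup.index_eq_one.1 h)
    have h2 : (M.subgroupOf X).index = 2 := by omega
    exact frattini_le_coatom (mb_fratle_coatom _ h2)

end Cfsg.Agent.Helper17.MB
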