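import Mathlib
import Cfsg.Agent.Lib.MB.MBDefs
import Cfsg.Agent.Lib.Helper22.OddCyclicMax

/-! S4409 piece MB-NORMAL4 (helper17 design; see plans/S4409_plan.md). -/

set_option autoImplicit false

namespace Cfsg.Agent.Helper17.MB

variable {S : Type*} [Group S]

/-- a normal subgroup of order 8 of a 2-group contains a normal subgroup of order 4. -/
theorem exists_normal_card_four [Finite S] (X Q : Subgroup S) (h2 : IsPGroup 2 ↥X)
    (hQX : Q ≤ X) (hn : X ≤ Subgroup.normalizer (Q : Set S)) (h8 : Nat.card ↥Q = 8) :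
    ∃ U : Subgroup S, U ≤ Q ∧ Nat.card ↥U = 4 ∧ X ≤ Subgroup.normalizer (U : Set S) := by
  have : Fact (Nat.Prime 2) := ⟨Nat.prime_two⟩
  have hNn : (Q.subgroupOf X).Normal := (Subgroup.normal_subgroupOf_iff_le_normalizer hQX).2 hn
  have hNcard : Nat.card ↥(Q.subgroupOf X) = 8 := by
    rw [Nat.card_congr (Subgroup.subgroupOfEquivOfLe hQX).toEquiv, h8]
  have hbotn : (⊥ : Subgroup ↥X).Normal := inferInstance
  have hne0 : (⊥ : Subgroup ↥X) ≠ Q.subgroupOf X := by
    intro h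
    rw [← h, Subgroup.card_bot] at hNcard
    omega
  obtain ⟨K₁, hK₁n, -, hK₁N, hK₁c⟩ :=
    Cfsg.Agent.Helper22.exists_normal_step h2 (Q.subgroupOf X) ⊥ bot_le hne0
  rw [Subgroup.card_bot, mul_one] at hK₁c
  have hne1 : K₁ ≠ Q.subgroupOf X := by
    intro h
    rw [h] at hK₁c
    omega
  obtain ⟨K₂, hK₂n, -, hK₂N, hK₂c⟩ :=
    Cfsg.Agent.Helper22.exists_normal_step h2 (Q.subgroupOf X) K₁ hK₁N hne1
  rw [hK₁c] at hK₂c
  refine ⟨K₂.map X.subtype, ?_, ?_, ?_⟩
  · rintro _ ⟨k, hk, rfl⟩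
    exact Subgroup.mem_subgroupOf.1 (hK₂N hk)
  · rw [Nat.card_congr (K₂.equivMapOfInjective X.subtype X.subtype_injective).toEquiv.symm, hK₂c]
  · have h1 := Subgroup.le_normalizer_map (H := K₂) X.subtype
    rw [Subgroup.normalizer_eq_top, ← MonoidHom.range_eq_map, Subgroup.range_subtype] at h1
    exact h1

end Cfsg.Agent.Helper17.MB
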