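import Mathlib
import Cfsg.Agent.Lib.MB.MBDefs
import Cfsg.Agent.Lib.MB.MBNORMAL4
import Cfsg.Agent.Lib.MB.MBIDX4
import Cfsg.Agent.Lib.MB.MBFRATLE
import Cfsg.Agent.Lib.MB.MBCENTIDX2

/-! S4409 piece MB-FRATQ8 (helper17 design; see plans/S4409_plan.md): a nonabelian normal subgroup of
order 8 is not inside the Frattini subgroup (assembly of NORMAL4, IDX4, FRATLE, CENTIDX2).  (helper9) -/

set_option autoImplicit false

namespace Cfsg.Agent.Helper17.MB

variable {S : Type*} [Group S]

/-- a nonabelian normal subgroup of order 8 is not contained in the Frattini subgroup. -/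
theorem false_of_q8_le_phiS [Finite S] (X Q : Subgroup S) (h2 : IsPGroup 2 ↥X)
    (hQ : Q ≤ PhiS X) (hn : X ≤ Subgroup.normalizer (Q : Set S)) (h8 : Nat.card ↥Q = 8)
    (hna : ¬ IsMulCommutative ↥Q) : False := by
  have hPhiX : PhiS X ≤ X := Subgroup.map_subtype_le _
  have hQX : Q ≤ X := hQ.trans hPhiX
  obtain ⟨U, hUQ, hU4, hnU⟩ := exists_normal_card_four X Q h2 hQX hn h8
  have hidx := card_le_two_mul_centralizer X U h2 (hUQ.trans hQX) hnU hU4
  have hPhi : PhiS X ≤ X ⊓ Subgroup.centralizer (U : Set S) :=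
    phiS_le_of_card_le X (X ⊓ Subgroup.centralizer (U : Set S)) inf_le_left hidx
  have hc : Q ≤ Subgroup.centralizer (U : Set S) := (hQ.trans hPhi).trans inf_le_right
  exact hna (comm_of_central_index_two Q U hUQ hc (by rw [h8, hU4]))

end Cfsg.Agent.Helper17.MB
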