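import Mathlib
import Cfsg.Agent.Lib.MB.MBDefs
import Cfsg.Agent.Lib.MB.MBIDX4

/-! S4409 piece MB-S1E4 (helper17 design; see plans/S4409_plan.md): a self-centralizing normal
four-group excludes abelian subgroups of order 8. -/

set_option autoImplicit false
set_option linter.style.haveILetI false

namespace Cfsg.Agent.Helper17.MB

variable {S : Type*} [Group S]

/-- if a self-centralizing normal four-group exists there is no abelian subgroup of order 8. -/
theorem good_top_of_normal_e4 [Finite S] (T : Subgroup S) [T.Normal] (hT : IsE4 T)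
    (hC : Subgroup.centralizer (T : Set S) ≤ T) : Good (⊤ : Subgroup S) := by
  classical
  intro A _ hAc hA8
  exfalso
  haveI : Fact (Nat.Prime 2) := ⟨Nat.prime_two⟩
  have hA2 : IsPGroup 2 ↥A := IsPGroup.of_card (n := 3) (by rw [hA8]; norm_num)
  have hT2 : IsPGroup 2 ↥T := IsPGroup.of_card (n := 2) (by rw [hT.1]; norm_num)
  obtain ⟨P, hAP⟩ := hA2.exists_le_sylow
  have hTP : T ≤ (P : Subgroup S) := hT2.le_sylow_of_normal P
  have hn : (P : Subgroup S) ≤ Subgroup.normalizer (T : Set S) := by
    rw [Subgroup.normalizer_eq_top]; exact le_top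
  have h1 := card_le_two_mul_centralizer (P : Subgroup S) T P.isPGroup' hTP hn hT.1
  have h2 : Nat.card ↥((P : Subgroup S) ⊓ Subgroup.centralizer (T : Set S)) ≤ Nat.card ↥T :=
    Subgroup.card_le_of_le (inf_le_right.trans hC)
  have h3 : Nat.card ↥(P : Subgroup S) ≤ 8 := by
    rw [hT.1] at h2
    omega
  have hAP' : A = (P : Subgroup S) := by
    apply Subgroup.eq_of_le_of_card_ge hAP
    rw [hA8]; exact h3
  have hTA : T ≤ A := hAP' ▸ hTP
  have hAT : A ≤ T := by
    refine le_trans ?_ hC
    intro a ha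
    rw [Subgroup.mem_centralizer_iff]
    intro t ht
    have := hAc.is_comm.comm ⟨t, hTA ht⟩ ⟨a, ha⟩
    exact congrArg Subtype.val this
  have h4 : Nat.card ↥A ≤ Nat.card ↥T := Subgroup.card_le_of_le hAT
  rw [hA8, hT.1] at h4
  omega

end Cfsg.Agent.Helper17.MB
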