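import Mathlib
import Cfsg.Agent.Lib.MB.MBDefs
import Cfsg.Agent.Lib.MB.MBABNC4
import Cfsg.Agent.Lib.MB.MBQ8BASIC
import Cfsg.Agent.S4143
import Cfsg.Agent.S3919

/-! S4409 piece MB-S1Q8 (helper17 design; see plans/S4409_plan.md). -/

set_option autoImplicit false

namespace Cfsg.Agent.Helper17.MB

variable {S : Type*} [Group S]

/-- if a self-centralizing normal `Q8` exists then `S` is good (maximal class Sylow). -/
theorem good_top_of_normal_q8 [Finite S] (T : Subgroup S) [T.Normal] (hT : IsQ8 T)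
    (hC : Subgroup.centralizer (T : Set S) ≤ T) : Good (⊤ : Subgroup S) := by
  have : Fact (Nat.Prime 2) := ⟨Nat.prime_two⟩
  intro A _ hAc hA8
  by_contra hnc
  have hT8 : Nat.card ↥T = 8 := card_of_isQ8 T hT
  have hTna : ¬ IsMulCommutative ↥T := not_comm_of_isQ8 T hT
  have hA2 : IsPGroup 2 ↥A := IsPGroup.of_card (n := 3) (by rw [hA8]; norm_num)
  have hT2 : IsPGroup 2 ↥T := IsPGroup.of_card (n := 3) (by rw [hT8]; norm_num)
  obtain ⟨P, hAP⟩ := hA2.exists_le_sylow
  have hTP : T ≤ (P : Subgroup S) := hT2.le_sylow_of_normal P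
  obtain ⟨n, hn⟩ := P.2.exists_card_eq
  -- the subgroup `B = T` of `↥P`
  have hBcard : Nat.card ↥(T.subgroupOf (P : Subgroup S)) = 2 ^ 3 := by
    rw [Nat.card_congr (Subgroup.subgroupOfEquivOfLe hTP).toEquiv, hT8]; norm_num
  have hBna : ¬ IsMulCommutative ↥(T.subgroupOf (P : Subgroup S)) := by
    intro h
    apply hTna
    refine ⟨⟨fun a b => ?_⟩⟩
    have := h.is_comm.comm ((Subgroup.subgroupOfEquivOfLe hTP).symm a)
      ((Subgroup.subgroupOfEquivOfLe hTP).symm b)
    rw [← map_mul, ← map_mul] at this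
    exact (Subgroup.subgroupOfEquivOfLe hTP).symm.injective this
  have hBC : Subgroup.centralizer ((T.subgroupOf (P : Subgroup S) : Subgroup ↥(P : Subgroup S)) :
      Set ↥(P : Subgroup S)) ≤ T.subgroupOf (P : Subgroup S) := by
    intro x hx
    rw [Subgroup.mem_subgroupOf]
    apply hC
    rw [Subgroup.mem_centralizer_iff]
    intro t ht
    have := hx ⟨t, hTP ht⟩ (by rw [SetLike.mem_coe, Subgroup.mem_subgroupOf]; exact ht)
    exact congrArg Subtype.val this
  have hclass := Cfsg.Agent.S4143.result (X := ↥(P : Subgroup S)) (p := 2) n hn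
    (T.subgroupOf (P : Subgroup S)) hBcard hBna hBC
  have hPna : ¬ IsMulCommutative ↥(P : Subgroup S) := by
    intro h
    apply hBna
    exact ⟨⟨fun a b => Subtype.ext (h.is_comm.comm (a : ↥(P : Subgroup S)) b)⟩⟩
  have hn3 : 3 ≤ n := by
    have h1 : Nat.card ↥(T.subgroupOf (P : Subgroup S)) ≤ Nat.card ↥(P : Subgroup S) :=
      Nat.card_le_card_of_injective _ (Subgroup.subtype_injective _)
    rw [hBcard, hn] at h1
    exact (Nat.pow_le_pow_iff_right (by norm_num)).1 h1
  have hnil : Group.IsNilpotent ↥(P : Subgroup S) := P.2.isNilpotent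
  have hlcs : (⊤ : Subgroup ↥(P : Subgroup S)).lowerCentralSeries (n - 2) ≠ ⊥ := by
    rw [Ne, Subgroup.lowerCentralSeries_eq_bot_iff_nilpotencyClass_le, hclass]
    omega
  have hself := (Cfsg.Agent.S3919.result hPna n hn).2 hlcs
  -- a four-subgroup of `A`
  obtain ⟨E, hEA, hE4, hEnc⟩ := exists_e4_of_abelian_noncyclic A hA2
    (fun a ha b hb => congrArg Subtype.val (hAc.is_comm.comm (⟨a, ha⟩ : A) ⟨b, hb⟩)) hnc
  have hEP : E ≤ (P : Subgroup S) := hEA.trans hAP
  have hE'nc : ¬ IsCyclic ↥(E.subgroupOf (P : Subgroup S)) := by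
    intro h
    apply hEnc
    exact isCyclic_of_surjective (Subgroup.subgroupOfEquivOfLe hEP)
      (Subgroup.subgroupOfEquivOfLe hEP).surjective
  have hself' := hself (E.subgroupOf (P : Subgroup S)) hE'nc
  have hAE : A ≤ E := by
    intro a ha
    have h1 : (⟨a, hAP ha⟩ : ↥(P : Subgroup S)) ∈ Subgroup.centralizer
        ((E.subgroupOf (P : Subgroup S) : Subgroup ↥(P : Subgroup S)) : Set ↥(P : Subgroup S)) := by
      rw [Subgroup.mem_centralizer_iff]
      intro e he
      rw [SetLike.mem_coe, Subgroup.mem_subgroupOf] at he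
      apply Subtype.ext
      have := congrArg Subtype.val (hAc.is_comm.comm (⟨(e : S), hEA he⟩ : A) ⟨a, ha⟩)
      exact this
    exact Subgroup.mem_subgroupOf.1 (hself' h1)
  have h84 : Nat.card ↥A ≤ Nat.card ↥E := Subgroup.card_le_of_le hAE
  rw [hA8, hE4] at h84
  omega

end Cfsg.Agent.Helper17.MB
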