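import Mathlib
import Cfsg.Agent.Lib.MB.MBDefs
import Cfsg.Agent.Lib.MB.MBPCORE
import Cfsg.Agent.Lib.MB.MBLEMMAC
import Cfsg.Agent.Lib.MB.MBGOODT
import Cfsg.Agent.Lib.MB.MBS1E4
import Cfsg.Agent.Lib.MB.MBS1Q8
import Cfsg.Agent.Lib.MB.MBHALL
import Cfsg.Agent.Lib.MB.MBSUPIDX

/-! S4409 assembly MB-STEP1 (helper17; see plans/S4409_plan.md). -/

set_option autoImplicit false

namespace Cfsg.Agent.Helper17.MB

variable {S : Type*} [Group S]

/-- **Part 1**: the Sylow 2-subgroup is normal. -/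
theorem sylow_normal [Finite S] [Group.IsSolvable S] (hO : Cfsg.pPrimeCore 2 S = ⊥)
    (h8 : ¬ Good (⊤ : Subgroup S))
    (hmin : ∀ R : Subgroup S, R ≠ ⊤ → (∃ k : ℕ, R.index = 2 ^ k) → Good R)
    (X : Sylow 2 S) : (X : Subgroup S).Normal := by
  obtain ⟨hTn, hT2, hTX, hTC, hTtop, -⟩ := pCore_facts (S := S) hO
  by_cases hT : Good (Cfsg.pCore 2 S)
  · exfalso
    rcases lemma_C hT2 ((good_iff_goodT _).1 hT) with h | h | h
    · have hS2 : IsPGroup 2 S := Cfsg.Agent.Helper16.isPGroup_of_aut_isPGroup _ hT2 hTC h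
      rw [hTtop hS2] at hT
      exact h8 hT
    · exact h8 (good_top_of_normal_e4 _ h hTC)
    · exact h8 (good_top_of_normal_q8 _ h hTC)
  · obtain ⟨H, hcard, hodd⟩ := exists_hall X
    have hHn : H ≤ Subgroup.normalizer ((Cfsg.pCore 2 S : Subgroup S) : Set S) := by
      rw [Subgroup.normalizer_eq_top]; exact le_top
    obtain ⟨-, hidx, htop⟩ := sup_hall_facts (X : Subgroup S) (Cfsg.pCore 2 S) H X.isPGroup'
      (hTX X) hHn hodd hcard
    have hbad : ¬ Good (Cfsg.pCore 2 S ⊔ H) := fun hg => hT (good_mono le_sup_left hg)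
    have htop' : Cfsg.pCore 2 S ⊔ H = ⊤ := by
      by_contra hne
      exact hbad (hmin _ hne hidx)
    rw [← htop htop']
    exact hTn

end Cfsg.Agent.Helper17.MB
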