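import Mathlib
import Cfsg.Agent.Lib.MB.MBDefs
import Cfsg.Agent.Lib.MB.MBSTEP1
import Cfsg.Agent.Lib.MB.MBCTX
import Cfsg.Agent.Lib.MB.MBCTXBASIC
import Cfsg.Agent.Lib.MB.MBCASEB
import Cfsg.Agent.Lib.MB.MBCOMMNORM
import Cfsg.Agent.Lib.MB.MBCOMMCOMM
import Cfsg.Agent.Lib.MB.MBLEMMAG
import Cfsg.Agent.Lib.MB.MBA0
import Cfsg.Agent.Lib.MB.MBA4
import Cfsg.Agent.Lib.MB.MBA8

/-! S4409 assembly MB-MAIN (helper17; see plans/S4409_plan.md). -/

set_option autoImplicit false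

namespace Cfsg.Agent.Helper17.MB

variable {S : Type*} [Group S]

theorem mb_main [Finite S] [Group.IsSolvable S] (hO : Cfsg.pPrimeCore 2 S = ⊥)
    (h8 : ¬ Good (⊤ : Subgroup S))
    (hmin : ∀ R : Subgroup S, R ≠ ⊤ → (∃ k : ℕ, R.index = 2 ^ k) → Good R)
    (X : Sylow 2 S) :
    (X : Subgroup S).Normal ∧
      (IsMulCommutative ↥(X : Subgroup S) ∨
        (Cfsg.IsExtraspecial 2 ↥(X : Subgroup S) ∧ 32 ≤ Nat.card ↥(X : Subgroup S)) ∨
        (∃ (X₀ : Subgroup S) (k : ℕ), X₀ ≤ (X : Subgroup S) ∧ X₀.relIndex (X : Subgroup S) = 2 ∧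
          Nonempty (↥X₀ ≃* QuaternionGroup (2 ^ (k + 1))) ∧
          X₀ ⊔ ((X : Subgroup S) ⊓ Subgroup.centralizer (X₀ : Set S)) = (X : Subgroup S)) ∨
        (Cfsg.IsSpecial 2 ↥(X : Subgroup S) ∧
          Nat.card ↥(Subgroup.center ↥(X : Subgroup S)) = 4)) := by
  have hXn := sylow_normal hO h8 hmin X
  refine ⟨hXn, ?_⟩
  obtain ⟨H, h⟩ := exists_ctx hO h8 hmin X hXn
  obtain ⟨hHn, hcop, hX1n, hX1le, hXne, hminY⟩ := ctx_facts h
  by_cases hXH : ⁅(X : Subgroup S), H⁆ = (X : Subgroup S)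
  · by_cases hab : IsMulCommutative ↥(X : Subgroup S)
    · exact Or.inl hab
    · rcases case_B h hXH hab with hB | hB
      · exact Or.inr (Or.inl hB)
      · exact Or.inr (Or.inr (Or.inr hB))
  · obtain ⟨-, -, hHX1⟩ := commutator_facts (X : Subgroup S) H hHn
    have hg : Good ⁅(X : Subgroup S), H⁆ := by
      by_contra hb
      exact hXH (hminY _ hX1le hHX1 hb)
    have h2 : IsPGroup 2 ↥(⁅(X : Subgroup S), H⁆) := h.two.to_le hX1le
    have hcc := commutator_commutator_eq (X : Subgroup S) H hHn hcop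
    rcases lemma_G _ H h2 hHX1 h.odd hg hcc with h0 | h4 | h8'
    · exact Or.inl (case_A0 h h0)
    · exact Or.inl (case_A4 h h4)
    · exact Or.inr (Or.inr (Or.inl (case_A8 h h8')))

end Cfsg.Agent.Helper17.MB
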